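import Cfsg.Agent.Lib.DihedralChain68.Quot

/-!
# The quotient by the odd core

helper68.
-/

set_option autoImplicit false
set_option linter.style.haveILetI false

namespace Cfsg.Agent.Lib.DihedralChain68

variable {X : Type*} [Group X] [Finite X]

/-- A normal subgroup of odd index over `Q` meets a 2-group in `Q`. -/
theorem odd_relIndex {Q C P : Subgroup X} [C.Normal] (hQP : Q ≤ P) (hQC : Q ≤ C) {n : ℕ} (hn : Odd n)
    (hX : Nat.card X = 2 * n * Nat.card Q) (hP : Nat.card P = 2 * Nat.card Q) (hCP : C ⊓ P ≤ Q) :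
    Odd (Q.relIndex C) := by
  have h1 := Subgroup.relIndex_mul_relIndex (⊥ : Subgroup X) Q C bot_le hQC
  rw [Subgroup.relIndex_bot_left, Subgroup.relIndex_bot_left] at h1
  have hinf : C ⊓ P = Q := le_antisymm hCP (le_inf hQC hQP)
  have h2 : Nat.card (C ⊔ P : Subgroup X) = 2 * Nat.card C := by
    have a1 := Subgroup.relIndex_mul_relIndex (⊥ : Subgroup X) C (C ⊔ P) bot_le le_sup_left
    rw [Subgroup.relIndex_bot_left, Subgroup.relIndex_bot_left, Subgroup.relIndex_sup_left] at a1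
    have a2 := Subgroup.relIndex_mul_relIndex (⊥ : Subgroup X) (C ⊓ P) P bot_le inf_le_right
    rw [Subgroup.relIndex_bot_left, Subgroup.relIndex_bot_left, Subgroup.inf_relIndex_right, hP, hinf,
      mul_comm 2] at a2
    rw [← a1, Nat.eq_of_mul_eq_mul_left Nat.card_pos a2, mul_comm]
  have h3 := Subgroup.card_subgroup_dvd_card (C ⊔ P)
  rw [h2, hX, ← h1, mul_assoc, mul_comm n] at h3
  have h4 := Nat.dvd_of_mul_dvd_mul_left Nat.card_pos (Nat.dvd_of_mul_dvd_mul_left two_pos h3)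
  exact hn.of_dvd_nat h4

/-- An odd normal subgroup with 2-power index is the odd core. -/
theorem oddCore_eq {O : Subgroup X} [O.Normal] (hodd : Odd (Nat.card O))
    (h : ∀ N : Subgroup X, N.Normal → Odd (Nat.card N) → N ≤ O) : Cfsg.oddCore X = O :=
  le_antisymm (h _ inferInstance Cores.oddCore_odd) (Cores.le_oddCore hodd)

theorem eq_one_of_odd {g : X} {N : Subgroup X} (hg : g ∈ N) (hN : Odd (Nat.card N)) (hg2 : g * g = 1) :
    g = 1 := by
  have h := Subgroup.orderOf_coe (⟨g, hg⟩ : N) ▸ orderOf_dvd_natCard (⟨g, hg⟩ : N)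
  have h2 : orderOf g ∣ 2 := orderOf_dvd_of_pow_eq_one (by rw [pow_two]; exact hg2)
  exact orderOf_eq_one_iff.1 (Nat.eq_one_of_dvd_coprimes
    (Nat.coprime_two_left.2 hN) h2 h)

/-- The main step: `X` modulo a normal subgroup of odd order and `R` is `S₄`. -/
theorem main_step (Q R P : Subgroup X) [Q.Normal] [R.Normal] (hRQ : R ≤ Q)
    (hRc : ∀ r ∈ R, ∀ g : X, Commute r g) (habQ : ∀ p ∈ Q, ∀ q ∈ Q, p * q = q * p) (hQ2 : ∀ q ∈ Q, q * q = 1)
    (hQR : Nat.card Q = 4 * Nat.card R) {n : ℕ} (hn : Odd n) (hX : Nat.card X = 2 * n * Nat.card Q)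
    (hQP : Q ≤ P) (hP : Nat.card P = 2 * Nat.card Q) {a b e q₀ : X} (ha : a ∈ P) (ha2 : a * a = 1)
    (he : e ∈ Q) (hae : Commute a e) (hq₀ : q₀ ∈ Q) (haq : a * q₀ * a⁻¹ * q₀⁻¹ ∉ R)
    (hbe : b * e * b⁻¹ * e⁻¹ ∉ R) :
    ∃ O : Subgroup X, O.Normal ∧ Odd (Nat.card O) ∧ Cfsg.oddCore X = O ∧
      (∀ g ∈ Q, g ∈ O → g = 1) ∧
      ∃ φ : X →* Equiv.Perm (Fin 4), Function.Surjective φ ∧ φ.ker = R ⊔ O := by
  classical
  -- centralising `Q` modulo `R`
  let π := QuotientGroup.mk' R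
  set E' : Subgroup (X ⧸ R) := Q.map π with hE'
  haveI hE'n : E'.Normal := (inferInstance : Q.Normal).map _ (QuotientGroup.mk'_surjective R)
  set C : Subgroup X := (Subgroup.centralizer (E' : Set (X ⧸ R))).comap π with hC
  haveI : C.Normal := by rw [hC]; infer_instance
  have memC : ∀ g : X, g ∈ C ↔ ∀ q ∈ Q, g * q * g⁻¹ * q⁻¹ ∈ R := by
    intro g
    rw [hC, Subgroup.mem_comap, Subgroup.mem_centralizer_iff]
    constructor
    · intro h q hq
      rw [← QuotientGroup.eq_one_iff]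
      have := h (π q) ⟨q, hq, rfl⟩
      change π (g * q * g⁻¹ * q⁻¹) = 1
      simp only [map_mul, map_inv]
      rw [← this]; group
    · rintro h _ ⟨q, hq, rfl⟩
      have := (QuotientGroup.eq_one_iff _).2 (h q hq)
      change π (g * q * g⁻¹ * q⁻¹) = 1 at this
      simp only [map_mul, map_inv] at this
      rw [mul_inv_eq_one, mul_inv_eq_iff_eq_mul] at this
      exact this.symm
  have hQC : Q ≤ C := fun g hg => (memC g).2 fun q hq => by
    rw [habQ g hg q hq, mul_inv_cancel_right, mul_inv_cancel]; exact one_mem R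
  have haC : a ∉ C := fun h => haq ((memC a).1 h q₀ hq₀)
  have hCP : C ⊓ P ≤ Q := by
    intro g hg
    by_contra hgQ
    have hidx : (Q.subgroupOf P).index = 2 := by
      have h' := Subgroup.card_mul_index (Q.subgroupOf P)
      rw [Nat.card_congr (Subgroup.subgroupOfEquivOfLe hQP).toEquiv, hP, mul_comm 2] at h'
      exact Nat.eq_of_mul_eq_mul_left Nat.card_pos h'
    have haQ : a ∉ Q := fun h => haC (hQC h)
    have := (Subgroup.mul_mem_iff_of_index_two hidx (a := ⟨a, ha⟩) (b := ⟨g, hg.2⟩)).2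
      ⟨fun h => absurd h haQ, fun h => absurd h hgQ⟩
    exact haC (by simpa using C.mul_mem (hQC this) (C.inv_mem hg.1))
  have hodd := odd_relIndex hQP hQC hn hX hP hCP
  -- elements of `C` centralise `Q`
  have hcent : ∀ q ∈ Q, ∀ g ∈ C, Commute q g := by
    intro q hq g hg
    set m := Q.relIndex C
    set r := g * q * g⁻¹ * q⁻¹ with hr
    have hrR : r ∈ R := (memC g).1 hg q hq
    have hgq : g * q * g⁻¹ = r * q := by rw [hr]; group
    have hiter : ∀ j : ℕ, g ^ j * q * (g ^ j)⁻¹ = r ^ j * q := by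
      intro j
      induction j with
      | zero => simp
      | succ j ih =>
        have e1 := (hRc _ (pow_mem hrR j) g).eq
        calc g ^ (j + 1) * q * (g ^ (j + 1))⁻¹ = g * (g ^ j * q * (g ^ j)⁻¹) * g⁻¹ := by
              rw [pow_succ']; group
          _ = g * (r ^ j * q) * g⁻¹ := by rw [ih]
          _ = (g * r ^ j) * q * g⁻¹ := by group
          _ = r ^ j * (g * q * g⁻¹) := by rw [← e1]; group
          _ = r ^ (j + 1) * q := by rw [hgq, pow_succ]; group
    have hgm : g ^ m ∈ Q := by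
      haveI : (Q.subgroupOf C).Normal := inferInstance
      exact Subgroup.pow_index_mem (Q.subgroupOf C) ⟨g, hg⟩
    have h1 := hiter m
    rw [habQ _ hgm _ hq, mul_inv_cancel_right, right_eq_mul] at h1
    obtain ⟨j, hj⟩ := hodd
    rw [hj, pow_add, pow_mul, pow_two, hQ2 r (hRQ hrR), one_pow, one_mul, pow_one] at h1
    show q * g = g * q
    have : g * q * g⁻¹ = q := by rw [hgq, h1, one_mul]
    rw [mul_inv_eq_iff_eq_mul] at this
    exact this.symm
  obtain ⟨O, hOn, hOodd, hOC, hCQO, -⟩ := exists_odd_complement Q C hQC hcent hQ2 hodd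
  have hQO : ∀ g ∈ Q, g ∈ O → g = 1 := fun g hg hgO => eq_one_of_odd hgO hOodd (hQ2 g hg)
  haveI : (R ⊔ O).Normal := inferInstance
  set M := R ⊔ O with hM
  let σ := QuotientGroup.mk' M
  have hMQ : ∀ g ∈ Q, g ∈ M → g ∈ R := by
    intro g hg hgM
    obtain ⟨r, hr, o, ho, rfl⟩ := Subgroup.mem_sup_of_normal_right.1 hgM
    have : o ∈ Q := by simpa using Q.mul_mem (Q.inv_mem (hRQ hr)) hg
    rw [hQO o this ho, mul_one]; exact hr
  set E : Subgroup (X ⧸ M) := Q.map σ with hE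
  haveI : E.Normal := (inferInstance : Q.Normal).map _ (QuotientGroup.mk'_surjective M)
  have hE4 : Nat.card E = 4 := by
    have h1 : (M.subgroupOf Q) = R.subgroupOf Q := by
      ext g
      exact ⟨fun h => hMQ g g.2 h, fun h => Subgroup.mem_sup_left h⟩
    have h2 := Subgroup.card_mul_index (R.subgroupOf Q)
    rw [Nat.card_congr (Subgroup.subgroupOfEquivOfLe hRQ).toEquiv, hQR, mul_comm 4] at h2
    have h3 : Nat.card E = (σ.comp Q.subtype).ker.index := by
      rw [Subgroup.index_ker, hE, MonoidHom.range_comp, Subgroup.range_subtype]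
    rw [h3, ← MonoidHom.comap_ker, QuotientGroup.ker_mk']
    change (M.subgroupOf Q).index = 4
    rw [h1]
    exact Nat.eq_of_mul_eq_mul_left Nat.card_pos h2
  have hEel : Cfsg.IsElementaryAbelian 2 E := by
    refine ⟨⟨⟨?_⟩⟩, ?_⟩
    · rintro ⟨_, p, hp, rfl⟩ ⟨_, q, hq, rfl⟩
      exact Subtype.ext (by show σ p * σ q = σ q * σ p; rw [← map_mul, habQ p hp q hq, map_mul])
    · rintro _ ⟨p, hp, rfl⟩
      rw [pow_two, ← map_mul, hQ2 p hp, map_one]
  -- commutators with `Q` modulo `M`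
  have hcomm : ∀ g : X, ∀ q ∈ Q, Commute (σ g) (σ q) → g * q * g⁻¹ * q⁻¹ ∈ R := by
    intro g q hq h
    refine hMQ _ (Q.mul_mem ((inferInstance : Q.Normal).conj_mem q hq g) (Q.inv_mem hq)) ?_
    rw [← QuotientGroup.eq_one_iff]
    show σ (g * q * g⁻¹ * q⁻¹) = 1
    simp only [map_mul, map_inv]
    rw [h.eq, mul_inv_cancel_right, mul_inv_cancel]
  have hCE : Subgroup.centralizer (E : Set (X ⧸ M)) ≤ E := by
    intro x hx
    obtain ⟨g, rfl⟩ := QuotientGroup.mk'_surjective M x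
    have hgC : g ∈ C := (memC g).2 fun q hq => hcomm g q hq
      (Subgroup.mem_centralizer_iff.1 hx (σ q) ⟨q, hq, rfl⟩).symm
    obtain ⟨q, hq, o, ho, rfl⟩ := Subgroup.mem_sup_of_normal_right.1 (hCQO hgC)
    rw [map_mul, show σ o = 1 from (QuotientGroup.eq_one_iff o).2 (Subgroup.mem_sup_right ho), mul_one]
    exact ⟨q, hq, rfl⟩
  obtain ⟨φ⟩ := iso_perm_four E hE4 hEel hCE (a := σ a) (b := σ b) (e := σ e)
    (by rw [← map_mul, ha2, map_one]; exact one_mem E) ⟨e, he, rfl⟩ (hae.map σ)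
    (fun h => haq (hcomm a q₀ hq₀ (Subgroup.mem_centralizer_iff.1 h (σ q₀) ⟨q₀, hq₀, rfl⟩).symm))
    (fun h => hbe (hcomm b e he h))
  -- the odd core
  have hcore : Cfsg.oddCore X = O := by
    refine oddCore_eq hOodd fun N hN hNodd g hg => ?_
    have hgC : g ∈ C := (memC g).2 fun q hq => by
      set c := g * q * g⁻¹ * q⁻¹ with hc
      have hcQ : c ∈ Q := Q.mul_mem ((inferInstance : Q.Normal).conj_mem q hq g) (Q.inv_mem hq)
      have hcN : c ∈ N := by
        have : c = g * (q * g⁻¹ * q⁻¹) := by rw [hc]; group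
        rw [this]
        exact N.mul_mem hg (hN.conj_mem _ (N.inv_mem hg) q)
      rw [eq_one_of_odd hcN hNodd (hQ2 c hcQ)]; exact one_mem R
    -- an element of odd order in `Q ⊔ O`
    obtain ⟨q, hq, o, ho, rfl⟩ := Subgroup.mem_sup_of_normal_right.1 (hCQO hgC)
    haveI := hN
    have hx : q * o ∈ N ⊔ O := Subgroup.mem_sup_left hg
    have hqN : q ∈ N ⊔ O := by simpa using (N ⊔ O).mul_mem hx (Subgroup.mem_sup_right (O.inv_mem ho))
    have hoddNO : Odd (Nat.card (N ⊔ O : Subgroup X)) := by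
      refine hNodd.mul hOodd |>.of_dvd_nat ?_
      have a1 := Subgroup.relIndex_mul_relIndex (⊥ : Subgroup X) O (N ⊔ O) bot_le le_sup_right
      rw [Subgroup.relIndex_bot_left, Subgroup.relIndex_bot_left, Subgroup.relIndex_sup_right] at a1
      rw [← a1, mul_comm (Nat.card N)]
      exact Nat.mul_dvd_mul_left _ (Subgroup.relIndex_dvd_card O N)
    rw [eq_one_of_odd hqN hoddNO (hQ2 q hq), one_mul]
    exact ho
  refine ⟨O, hOn, hOodd, hcore, hQO, φ.toMonoidHom.comp σ, ?_, ?_⟩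
  · exact φ.surjective.comp (QuotientGroup.mk'_surjective M)
  · ext g
    rw [MonoidHom.mem_ker]
    show φ (σ g) = 1 ↔ _
    rw [φ.map_eq_one_iff, ← MonoidHom.mem_ker, QuotientGroup.ker_mk']

end Cfsg.Agent.Lib.DihedralChain68
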