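import Cfsg.Agent.Lib.DihedralChain68.Setup
import Cfsg.Agent.Lib.DihedralChain68.Odd

/-!
# The three cases `k = 2, 3, 4`

helper68.
-/

set_option autoImplicit false
set_option linter.style.haveILetI false
set_option linter.unusedSectionVars false

open scoped commutatorElement Pointwise

set_option maxHeartbeats 1000000

namespace Cfsg.Agent.Lib.DihedralChain68

variable {G : Type*} [Group G] [Finite G]

theorem sq_two : ∀ a : Multiplicative (ZMod 2), a * a = 1 := by decide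

theorem sq_two_prod : ∀ a : Multiplicative (ZMod 2) × Multiplicative (ZMod 2), a * a = 1 := by decide

theorem four_cases : ∀ a b p q r : Multiplicative (ZMod 2), p ≠ 1 → r ≠ 1 →
    (a, b) = (1, 1) ∨ (a, b) = (p, 1) ∨ (a, b) = (q, r) ∨ (a, b) = (p * q, r) := by decide

theorem two_cases : ∀ t p q : Multiplicative (ZMod 2), p ≠ 1 → t = q ∨ t = p * q := by decide

namespace Chain

variable (C : Chain G)

theorem commute_pt {z g : G} (h : ∀ l : ℤ, 1 - C.k ≤ l → l ≤ 1 → Commute z (C.xx l)) (hg : g ∈ C.pt 1) :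
    Commute z g := by
  rw [← C.closure_gens_point 1] at hg
  exact C.commute_gens h hg

theorem W01 : C.W 0 1 = C.P := by simp [W, SimsThree.win_zero]

theorem xx_mem_pt {l : ℤ} (h1 : 1 - C.k ≤ l) (h2 : l ≤ 1) : C.xx l ∈ C.pt 1 := by
  rw [← C.closure_gens_point 1]; exact Subgroup.subset_closure (C.xx_mem_gens l h1 h2)

theorem P_le_pt : C.P ≤ C.pt 1 := by
  rw [← W01, pt, sub_self]; exact le_sup_left

theorem eq_xx_or_one {lo hi p : ℤ} {g : G} (hc : Nat.card (C.W lo hi) = 2) (h1 : p ≤ lo) (h2 : hi ≤ p + C.k)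
    (hg : g ∈ C.W lo hi) : g = 1 ∨ g = C.xx p := by
  by_cases hg1 : g = 1
  · exact Or.inl hg1
  obtain ⟨z, -, hz⟩ := (Nat.card_eq_two_iff' (1 : C.W lo hi)).1 hc
  have e1 := hz ⟨g, hg⟩ fun e => hg1 (congrArg Subtype.val e)
  have e2 := hz ⟨C.xx p, C.xx_mem p h1 h2⟩ fun e => C.xx_ne_one p (congrArg Subtype.val e)
  exact Or.inr (congrArg Subtype.val (e1.trans e2.symm))

theorem card_W_two {lo hi : ℤ} (h1 : lo + 1 ≤ hi) (h : hi = lo + C.k) : Nat.card (C.W lo hi) = 2 := by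
  rw [C.card_W h1 (by omega), show C.k + 1 - (hi - lo).toNat = 1 by omega, pow_one]

theorem card_subgroupOf {H A : Subgroup G} (h : A ≤ H) : Nat.card (A.subgroupOf H) = Nat.card A :=
  Nat.card_congr (Subgroup.subgroupOfEquivOfLe h).toEquiv

theorem normal_of_central {X : Type*} [Group X] {R : Subgroup X} (h : ∀ r ∈ R, ∀ g : X, Commute r g) :
    R.Normal := ⟨fun r hr g => by rw [← (h r hr g).eq, mul_inv_cancel_right]; exact hr⟩

theorem prod_ker_odd {X : Type*} [Group X] [Finite X] {g : X} {N : Subgroup X} (hg : g ∈ N)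
    (hN : Odd (Nat.card N)) {A : Type*} [Group A] (f : X →* A) (h2 : ∀ a : A, a * a = 1) : f g = 1 := by
  have h := Subgroup.orderOf_coe (⟨g, hg⟩ : N) ▸ orderOf_dvd_natCard (⟨g, hg⟩ : N)
  exact orderOf_eq_one_iff.1 (Nat.eq_one_of_dvd_coprimes (Nat.coprime_two_left.2 hN)
    (orderOf_dvd_of_pow_eq_one (by rw [pow_two]; exact h2 _)) ((orderOf_map_dvd f g).trans h))

/-- `k = 2`: a four-group. -/
theorem iso_two {H : Subgroup G} (hH : C.pt 1 = H) (hk : C.k = 2) {n : ℕ} (hn : Odd n)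
    (hX : Nat.card H = 2 * n * Nat.card (C.W 0 2)) (hidx : Odd ((C.P.subgroupOf H).index))
    (ψ : H →* Multiplicative (ZMod 2)) (hψQ : ∀ g : H, (g : G) ∈ C.W 0 2 → ψ g = 1)
    (hψP : ∀ g : H, (g : G) ∈ C.P → (g : G) ∉ C.W 0 2 → ψ g ≠ 1) :
    Nonempty (↥H ⧸ Cfsg.oddCore ↥H ≃* Multiplicative (ZMod 2) × Multiplicative (ZMod 2)) := by
  classical
  haveI := Fact.mk Nat.prime_two
  have hl : C.lam = 2 := by have := C.two_le_lam (by omega); have := C.lam_le; omega
  have hk' : (C.k : ℤ) = 2 := by omega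
  have hPH : C.P ≤ H := hH ▸ C.P_le_pt
  have hm : ∀ l : ℤ, -1 ≤ l → l ≤ 1 → C.xx l ∈ H := fun l a b => hH ▸ C.xx_mem_pt (by omega) b
  set z : H := ⟨C.xx 0, hm 0 (by norm_num) (by norm_num)⟩ with hzdef
  set s : H := ⟨C.xx (-1), hm (-1) le_rfl (by norm_num)⟩ with hsdef
  have hzc : ∀ g : H, Commute z g := fun g => Subtype.ext
    (C.commute_pt (fun l a b => C.commute_of_lt (by omega) (by omega)) (hH.symm ▸ g.2)).eq
  have hzQ : (z : G) ∈ C.W 0 2 := C.xx_mem 0 le_rfl (by omega)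
  have hsP : (s : G) ∈ C.P := C.W01 ▸ C.xx_mem (-1) (by norm_num) (by omega)
  have hsQ : (s : G) ∉ C.W 0 2 := C.xx_not_mem (-1) (by omega) (by omega)
  have hzP : (z : G) ∈ C.P := C.W01 ▸ C.xx_mem 0 le_rfl (by omega)
  set M : Subgroup H := Subgroup.zpowers s with hM
  have hs2 : orderOf s = 2 := orderOf_eq_prime (Subtype.ext (by rw [pow_two]; exact C.xx_sq (-1)))
    fun e => C.xx_ne_one (-1) (congrArg Subtype.val e)
  have hMc : Nat.card M = 2 := by rw [hM, Nat.card_zpowers, hs2]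
  have hzM : z ∉ M := by
    intro h
    obtain ⟨w, -, hw⟩ := (Nat.card_eq_two_iff' (1 : M)).1 hMc
    have e1 := hw ⟨z, h⟩ fun e => C.xx_ne_one 0 (congrArg (fun x : M => ((x : H) : G)) e)
    have e2 := hw ⟨s, Subgroup.mem_zpowers s⟩ fun e => C.xx_ne_one (-1) (congrArg (fun x : M => ((x : H) : G)) e)
    exact hsQ ((congrArg (fun x : M => ((x : H) : G)) (e1.trans e2.symm)) ▸ hzQ)
  have hM2 : M.relIndex (C.P.subgroupOf H) = 2 := by
    have := Subgroup.relIndex_mul_relIndex (⊥ : Subgroup H) M (C.P.subgroupOf H) bot_le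
      (by rw [hM, Subgroup.zpowers_le]; exact hsP)
    rw [Subgroup.relIndex_bot_left, Subgroup.relIndex_bot_left, hMc, card_subgroupOf hPH, C.card_P, hk] at this
    omega
  obtain ⟨χ, hχ⟩ := exists_hom_ne_one _ M hidx hM2 z hzP hzM hzc (Subtype.ext (C.xx_sq 0))
  let Φ : H →* Multiplicative (ZMod 2) × Multiplicative (ZMod 2) := χ.prod ψ
  have h2C := sq_two_prod
  have hsurj : Function.Surjective Φ := by
    rintro ⟨a, b⟩
    have hdec := four_cases
    have ez : ψ z = 1 := hψQ z hzQ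
    rcases hdec a b (χ z) (χ s) (ψ s) hχ (hψP s hsP hsQ) with e | e | e | e
    · exact ⟨1, by rw [e]; exact map_one Φ⟩
    · exact ⟨z, by rw [e]; exact Prod.ext rfl ez⟩
    · exact ⟨s, by rw [e]; rfl⟩
    · exact ⟨z * s, by rw [e]; exact Prod.ext (map_mul χ z s) (by show ψ (z * s) = ψ s; rw [map_mul, ez, one_mul])⟩
  have hker : Odd (Nat.card Φ.ker) := by
    have h1 := Subgroup.card_mul_index Φ.ker
    rw [Subgroup.index_ker, MonoidHom.range_eq_top.2 hsurj, Subgroup.card_top, hX] at h1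
    have e4 : Nat.card (Multiplicative (ZMod 2) × Multiplicative (ZMod 2)) = 4 := by simp
    rw [e4, C.card_W (by norm_num) (by omega), hk] at h1
    have : 2 + 1 - ((2 : ℤ) - 0).toNat = 1 := rfl
    rw [this, pow_one] at h1
    rw [show Nat.card Φ.ker = n by omega]
    exact hn
  have hcore : Cfsg.oddCore H = Φ.ker :=
    oddCore_eq hker fun N _ hNodd g hg => MonoidHom.mem_ker.2 (prod_ker_odd hg hNodd Φ h2C)
  exact ⟨(QuotientGroup.quotientMulEquivOfEq hcore).trans (QuotientGroup.quotientKerEquivOfSurjective Φ hsurj)⟩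

/-- `k = 3`: `S₄`. -/
theorem iso_three {H : Subgroup G} (hH : C.pt 1 = H) (hk : C.k = 3) {n : ℕ} (hn : Odd n)
    (hX : Nat.card H = 2 * n * Nat.card (C.W 0 2)) (hQn : ((C.W 0 2).subgroupOf H).Normal) :
    Nonempty (↥H ⧸ Cfsg.oddCore ↥H ≃* Equiv.Perm (Fin 4)) := by
  haveI := hQn
  have hl : C.lam = 2 := by have := C.two_le_lam (by omega); have := C.upper (by omega); omega
  have hPH : C.P ≤ H := hH ▸ C.P_le_pt
  have hQP : C.W 0 2 ≤ C.P := C.W01 ▸ C.W_mono le_rfl (by norm_num)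
  have hm : ∀ l : ℤ, -2 ≤ l → l ≤ 1 → C.xx l ∈ H := fun l a b => hH ▸ C.xx_mem_pt (by omega) b
  have hgen : Subgroup.closure (C.gens (-1) 0) = C.W 0 2 := by
    rw [C.closure_gens (by norm_num) (by omega), hk]; rfl
  have hc : ∀ l l' : ℤ, -1 ≤ l → l ≤ 0 → -1 ≤ l' → l' ≤ 0 → Commute (C.xx l) (C.xx l') := fun l l' a b c d =>
    C.commute_of_lt (by omega) (by omega)
  have habQ : ∀ p ∈ C.W 0 2, ∀ q ∈ C.W 0 2, p * q = q * p := by
    intro v hv w hw
    rw [← hgen] at hv hw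
    exact (C.commute_gens (fun l' c' d => (C.commute_gens (fun l a b => hc l' l c' d a b) hv).symm) hw).eq
  have hQ2 : ∀ q ∈ C.W 0 2, q * q = 1 := fun q hq => C.sq_gens hc (hgen ▸ hq)
  have hQ4 : Nat.card (C.W 0 2) = 4 := by rw [C.card_W (by norm_num) (by omega), hk]; rfl
  have hnc : ∀ p q : ℤ, q = p + 2 → ∀ (hp : C.xx p ∈ H) (hq : C.xx q ∈ H),
      (⟨C.xx p, hp⟩ : H) * ⟨C.xx q, hq⟩ * (⟨C.xx p, hp⟩ : H)⁻¹ * (⟨C.xx q, hq⟩ : H)⁻¹ ∉ (⊥ : Subgroup H) := by
    intro p q e hp hq h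
    have h' : C.xx p * C.xx q * (C.xx p)⁻¹ * (C.xx q)⁻¹ = 1 := congrArg Subtype.val (Subgroup.mem_bot.1 h)
    subst e
    rw [mul_inv_eq_one, mul_inv_eq_iff_eq_mul] at h'
    exact C.not_commute_shift p (by rw [hl]; exact h')
  obtain ⟨O, hOn, -, hcore, -, φ, hφ, hker⟩ := main_step ((C.W 0 2).subgroupOf H) ⊥ (C.P.subgroupOf H) bot_le
    (fun r hr g => by rw [Subgroup.mem_bot.1 hr]; exact Commute.one_left g)
    (fun p hp q hq => Subtype.ext (habQ _ hp _ hq)) (fun q hq => Subtype.ext (hQ2 _ hq))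
    (by rw [card_subgroupOf (hQP.trans hPH), hQ4, Subgroup.card_bot]) hn
    (by rw [card_subgroupOf (hQP.trans hPH), hX])
    (fun g hg => hQP hg) (by rw [card_subgroupOf (hQP.trans hPH), card_subgroupOf hPH, C.card_P, hk, hQ4]; rfl)
    (a := ⟨C.xx (-2), hm _ le_rfl (by norm_num)⟩) (b := ⟨C.xx 1, hm _ (by norm_num) le_rfl⟩)
    (e := ⟨C.xx (-1), hm _ (by norm_num) (by norm_num)⟩) (q₀ := ⟨C.xx 0, hm _ (by norm_num) (by norm_num)⟩)
    (C.W01 ▸ C.xx_mem (-2) (by norm_num) (by omega) : C.xx (-2) ∈ C.P) (Subtype.ext (C.xx_sq _))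
    (C.xx_mem (-1) (by norm_num) (by omega) : C.xx (-1) ∈ C.W 0 2)
    (Subtype.ext (C.commute_of_lt (p := -2) (q := -1) (by omega) (by omega)).eq)
    (C.xx_mem 0 le_rfl (by omega) : C.xx 0 ∈ C.W 0 2)
    (hnc (-2) 0 (by norm_num) _ _)
    (fun h => hnc (-1) 1 (by norm_num) (hm _ (by norm_num) (by norm_num)) (hm _ (by norm_num) le_rfl) (by
      have := Subgroup.inv_mem _ h
      simp only [mul_inv_rev, inv_inv, ← mul_assoc] at this
      exact this))
  rw [bot_sup_eq] at hker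
  exact ⟨(QuotientGroup.quotientMulEquivOfEq (hcore.trans hker.symm)).trans
    (QuotientGroup.quotientKerEquivOfSurjective φ hφ)⟩

/-- `k = 4`: `S₄ × C₂`. -/
theorem iso_four {H : Subgroup G} (hH : C.pt 1 = H) (hk : C.k = 4) {n : ℕ} (hn : Odd n)
    (hX : Nat.card H = 2 * n * Nat.card (C.W 0 2)) (hQn : ((C.W 0 2).subgroupOf H).Normal)
    (hidx : Odd ((C.P.subgroupOf H).index)) {y h₁ : G} (hh₁ : h₁ ∈ H)
    (hP1 : C.P.map (MulAut.conj h₁).toMonoidHom = C.W 1 2) (hyN : y ∈ Subgroup.normalizer (C.P : Set G))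
    (hno : ∀ X : Subgroup G, X ≤ C.P → H ≤ Subgroup.normalizer (X : Set G) →
      y ∈ Subgroup.normalizer (X : Set G) → X = ⊥) :
    Nonempty (↥H ⧸ Cfsg.oddCore ↥H ≃* Equiv.Perm (Fin 4) × Multiplicative (ZMod 2)) := by
  classical
  haveI := Fact.mk Nat.prime_two
  haveI := hQn
  have hl : C.lam = 3 := by
    have := C.two_le_lam (by omega); have := C.upper (by omega); have := C.lower (by omega); omega
  have hk' : (C.k : ℤ) = 4 := by omega
  have hPH : C.P ≤ H := hH ▸ C.P_le_pt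
  have hQP : C.W 0 2 ≤ C.P := C.W01 ▸ C.W_mono le_rfl (by norm_num)
  have hm : ∀ l : ℤ, -3 ≤ l → l ≤ 1 → C.xx l ∈ H := fun l a b => hH ▸ C.xx_mem_pt (by omega) b
  have hgen : Subgroup.closure (C.gens (-2) 0) = C.W 0 2 := by
    rw [C.closure_gens (by norm_num) (by omega), hk]; rfl
  have hc : ∀ l l' : ℤ, -2 ≤ l → l ≤ 0 → -2 ≤ l' → l' ≤ 0 → Commute (C.xx l) (C.xx l') := fun l l' a b c d =>
    C.commute_of_lt (by omega) (by omega)
  have habQ : ∀ p ∈ C.W 0 2, ∀ q ∈ C.W 0 2, p * q = q * p := by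
    intro v hv w hw
    rw [← hgen] at hv hw
    exact (C.commute_gens (fun l' c' d => (C.commute_gens (fun l a b => hc l' l c' d a b) hv).symm) hw).eq
  have hQ2 : ∀ q ∈ C.W 0 2, q * q = 1 := fun q hq => C.sq_gens hc (hgen ▸ hq)
  have hQ8 : Nat.card (C.W 0 2) = 8 := by rw [C.card_W (by norm_num) (by omega), hk]; rfl
  have hPgen : Subgroup.closure (C.gens (-3) 0) = C.P := by
    rw [C.closure_gens (by norm_num) (by omega), hk, ← C.W01]; rfl
  set r := C.xx (-1) with hr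
  have hrc : ∀ g ∈ H, Commute r g := fun g hg =>
    C.commute_pt (fun l a b => C.commute_of_lt (by omega) (by omega)) (hH.symm ▸ hg)
  set Z := Subgroup.zpowers r with hZ
  have hr2 : orderOf r = 2 := orderOf_eq_prime (by rw [pow_two]; exact C.xx_sq _) (C.xx_ne_one _)
  have hZel : ∀ g ∈ Z, g = 1 ∨ g = r := by
    intro g hg
    have hle : Z ≤ C.W (-1) 3 := Subgroup.zpowers_le.2 (C.xx_mem (-1) le_rfl (by omega))
    exact C.eq_xx_or_one (C.card_W_two (by norm_num) (by omega)) le_rfl (by omega) (hle hg)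
  -- `c = [x₋₃, x₀]`
  set c := ⁅C.xx (-3), C.xx 0⁆ with hcdef
  have hcW : c ∈ C.W (-1) 2 := by
    have := C.comm_mem (p := -3) (q := 0) (by norm_num) (by omega)
    rw [hk'] at this
    norm_num at this
    exact this
  have hc1 : c ≠ 1 := by
    intro h
    have := C.not_commute_shift (-3)
    rw [hl] at this
    norm_num at this
    exact this (commutatorElement_eq_one_iff_mul_comm.1 h)
  have hrW : r ∈ C.W 0 2 := C.xx_mem (-1) (by norm_num) (by omega)
  have hcr : c ≠ r := by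
    intro e
    have hP0 : ∀ a ∈ C.P, ∀ b ∈ C.P, ⁅a, b⁆ ∈ Z := by
      have hZn : ∀ z ∈ Z, ∀ g ∈ C.P, g * z * g⁻¹ = z := by
        intro z hz g hg
        rcases hZel z hz with rfl | rfl
        · simp
        · rw [← (hrc g (hPH hg)).eq, mul_inv_cancel_right]
      have hg1 : ∀ a ∈ C.gens (-3) 0, ∀ b ∈ C.gens (-3) 0, ⁅a, b⁆ ∈ Z := by
        rintro _ ⟨l, a1, a2, rfl⟩ _ ⟨l', b1, b2, rfl⟩
        by_cases hclose : l' < l + 3 ∧ l < l' + 3
        · rw [commutatorElement_eq_one_iff_mul_comm.2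
            (C.commute_of_lt (p := l) (q := l') (by omega) (by omega)).eq]
          exact one_mem Z
        rcases (show (l = -3 ∧ l' = 0) ∨ (l = 0 ∧ l' = -3) by omega) with ⟨rfl, rfl⟩ | ⟨rfl, rfl⟩
        · rw [← hcdef, e]; exact Subgroup.mem_zpowers r
        · rw [← commutatorElement_inv, ← hcdef, e]; exact inv_mem (Subgroup.mem_zpowers r)
      have step : ∀ a ∈ C.P, (∀ b ∈ C.gens (-3) 0, ⁅a, b⁆ ∈ Z) → ∀ b ∈ C.P, ⁅a, b⁆ ∈ Z := by
        intro a ha hb b hbP
        rw [← hPgen] at hbP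
        induction hbP using Subgroup.closure_induction with
        | mem b hb' => exact hb b hb'
        | one => simp [commutatorElement_one_right]
        | mul b b' hb1 hb2 i1 i2 =>
          have e2 : ⁅a, b * b'⁆ = ⁅a, b⁆ * (b * ⁅a, b'⁆ * b⁻¹) := by simp only [commutatorElement_def]; group
          rw [e2, hZn _ i2 b (hPgen ▸ hb1)]; exact mul_mem i1 i2
        | inv b hb1 i1 =>
          have e2 : ⁅a, b⁻¹⁆ = b⁻¹ * ⁅a, b⁆⁻¹ * b⁻¹⁻¹ := by simp only [commutatorElement_def]; group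
          rw [e2, hZn _ (inv_mem i1) b⁻¹ (hPgen ▸ inv_mem hb1)]; exact inv_mem i1
      intro a ha b hb
      refine step a ha (fun b' hb' => ?_) b hb
      have hb'P : b' ∈ C.P := hPgen ▸ Subgroup.subset_closure hb'
      rw [← commutatorElement_inv]
      refine inv_mem (step b' hb'P (fun a' ha' => hg1 b' hb' a' ha') a ha)
    have hy : y ∈ Subgroup.normalizer (Z : Set G) := by
      rw [Subgroup.mem_normalizer_iff_map_conj_eq, hZ, MonoidHom.map_zpowers]
      congr 1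
      have h1 : (MulAut.conj y).toMonoidHom c ∈ Z := by
        rw [hcdef, map_commutatorElement]
        refine hP0 _ ?_ _ ?_
        · exact (Subgroup.mem_normalizer_iff.1 hyN _).1 (C.W01 ▸ C.xx_mem (-3) (by norm_num) (by omega))
        · exact (Subgroup.mem_normalizer_iff.1 hyN _).1 (C.W01 ▸ C.xx_mem 0 le_rfl (by omega))
      rcases hZel _ h1 with h2 | h2
      · exact absurd ((MulAut.conj y).map_eq_one_iff.1 h2) hc1
      · rwa [e] at h2
    have hbot := hno Z ((Subgroup.zpowers_le.2 hrW).trans hQP) ((fun g hg =>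
      Subgroup.centralizer_le_normalizer _ (Subgroup.mem_centralizer_iff.2 fun z hz => by
        rcases hZel z hz with rfl | rfl
        · simp
        · exact (hrc g hg).eq))) hy
    exact C.xx_ne_one (-1) (Subgroup.zpowers_eq_bot.1 hbot)
  have hx1c : C.xx (-2) * c ∈ C.W (-1) 3 := by
    have hidx2 : ((C.W (-1) 3).subgroupOf (C.W (-1) 2)).index = 2 := by
      have h' := Subgroup.card_mul_index ((C.W (-1) 3).subgroupOf (C.W (-1) 2))
      rw [card_subgroupOf (C.W_mono le_rfl (by norm_num)), C.card_W (by norm_num) (by omega),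
        C.card_W (by norm_num) (by omega), hk] at h'
      change 2 * _ = 4 at h'
      omega
    refine (Subgroup.mul_mem_iff_of_index_two hidx2
      (a := ⟨C.xx (-2), C.xx_mem (-2) (by norm_num) (by omega)⟩) (b := ⟨c, hcW⟩)).2
      ⟨fun h => absurd h (C.xx_not_mem (-2) (by omega) (by omega)), fun h => ?_⟩
    rcases C.eq_xx_or_one (p := -1) (C.card_W_two (by norm_num) (by omega)) le_rfl (by omega) h with e | e
    · exact absurd e hc1
    · exact absurd e hcr
  -- subgroups of `H`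
  set R : Subgroup H := Z.subgroupOf H with hRdef
  have hRc : ∀ z ∈ R, ∀ g : H, Commute z g := by
    intro z hz g
    refine Subtype.ext ?_
    rcases hZel (z : G) hz with e | e
    · show (z : G) * g = g * z
      rw [e, one_mul, mul_one]
    · show (z : G) * g = g * z
      rw [e]; exact (hrc g g.2).eq
  haveI : R.Normal := normal_of_central hRc
  have hR2 : Nat.card R = 2 := by
    rw [hRdef, card_subgroupOf ((Subgroup.zpowers_le.2 hrW).trans (hQP.trans hPH)), Nat.card_zpowers, hr2]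
  have hcomm : ∀ (a b : H), (a * b * a⁻¹ * b⁻¹ ∈ R) ↔ ⁅(a : G), (b : G)⁆ ∈ Z := fun a b => Iff.rfl
  have haq : ⁅C.xx (-3), C.xx 0⁆ ∉ Z := fun h => by
    rcases hZel _ h with e | e
    · exact hc1 e
    · exact hcr e
  -- `x₁` moves `x₋₂` modulo `R`
  have hbe : ⁅C.xx 1, C.xx (-2)⁆ ∉ Z := by
    intro h
    -- then `P₁` and hence `P` centralises `Q` modulo `R`
    have hQnH : ∀ g ∈ H, ∀ q ∈ C.W 0 2, g * q * g⁻¹ ∈ C.W 0 2 := fun g hg q hq =>
      hQn.conj_mem ⟨q, (hQP.trans hPH) hq⟩ hq ⟨g, hg⟩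
    have hgens : ∀ m l : ℤ, -2 ≤ m → m ≤ 1 → -2 ≤ l → l ≤ 0 → ⁅C.xx m, C.xx l⁆ ∈ Z := by
      intro m l m1 m2 l1 l2
      by_cases hclose : l < m + 3 ∧ m < l + 3
      · rw [commutatorElement_eq_one_iff_mul_comm.2
          (C.commute_of_lt (p := m) (q := l) (by omega) (by omega)).eq]
        exact one_mem Z
      obtain ⟨rfl, rfl⟩ : m = 1 ∧ l = -2 := by omega
      exact h
    have hW12 : ∀ g ∈ C.W 1 2, ∀ q ∈ C.W 0 2, ⁅g, q⁆ ∈ Z := by
      have hZH : ∀ z ∈ Z, ∀ g ∈ H, g * z * g⁻¹ = z := by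
        intro z hz g hg
        rcases hZel z hz with rfl | rfl
        · simp
        · rw [← (hrc g hg).eq, mul_inv_cancel_right]
      have h1gen : Subgroup.closure (C.gens (-2) 1) = C.W 1 2 := by
        rw [C.closure_gens (by norm_num) (by omega), hk]; rfl
      have hW1H : C.W 1 2 ≤ H := by
        rw [← h1gen, Subgroup.closure_le]
        rintro _ ⟨l, a, b, rfl⟩
        exact hm l (by omega) b
      have base : ∀ m : ℤ, -2 ≤ m → m ≤ 1 → ∀ q ∈ C.W 0 2, ⁅C.xx m, q⁆ ∈ Z := by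
        intro m m1 m2 q hq
        rw [← hgen] at hq
        induction hq using Subgroup.closure_induction with
        | mem b hb' => obtain ⟨l, a, b', rfl⟩ := hb'; exact hgens m l m1 m2 a b'
        | one => simp [commutatorElement_one_right]
        | mul b b' hb1 hb2 i1 i2 =>
          have e2 : ⁅C.xx m, b * b'⁆ = ⁅C.xx m, b⁆ * (b * ⁅C.xx m, b'⁆ * b⁻¹) := by
            simp only [commutatorElement_def]; group
          rw [e2, hZH _ i2 b (hPH (hQP (hgen ▸ hb1)))]; exact mul_mem i1 i2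
        | inv b hb1 i1 =>
          have e2 : ⁅C.xx m, b⁻¹⁆ = b⁻¹ * ⁅C.xx m, b⁆⁻¹ * b⁻¹⁻¹ := by simp only [commutatorElement_def]; group
          rw [e2, hZH _ (inv_mem i1) b⁻¹ (inv_mem (hPH (hQP (hgen ▸ hb1))))]; exact inv_mem i1
      intro g hg
      rw [← h1gen] at hg
      induction hg using Subgroup.closure_induction with
      | mem a ha => obtain ⟨m, a1, a2, rfl⟩ := ha; exact base m a1 a2
      | one => intro q hq; simp [commutatorElement_one_left]
      | mul a a' ha1 ha2 i1 i2 =>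
        intro q hq
        have e2 : ⁅a * a', q⁆ = (a * ⁅a', q⁆ * a⁻¹) * ⁅a, q⁆ := by simp only [commutatorElement_def]; group
        rw [e2, hZH _ (i2 q hq) a (hW1H (h1gen ▸ ha1))]; exact mul_mem (i2 q hq) (i1 q hq)
      | inv a ha1 i1 =>
        intro q hq
        have e2 : ⁅a⁻¹, q⁆ = a⁻¹ * ⁅a, q⁆⁻¹ * a⁻¹⁻¹ := by simp only [commutatorElement_def]; group
        rw [e2, hZH _ (inv_mem (i1 q hq)) a⁻¹ (inv_mem (hW1H (h1gen ▸ ha1)))]; exact inv_mem (i1 q hq)
    -- pull back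
    have h3 : h₁ * C.xx (-3) * h₁⁻¹ ∈ C.W 1 2 :=
      hP1 ▸ ⟨C.xx (-3), C.W01 ▸ C.xx_mem (-3) (by norm_num) (by omega), rfl⟩
    have h4 := hW12 _ h3 _ (hQnH h₁ hh₁ (C.xx 0) (C.xx_mem 0 le_rfl (by omega)))
    have h5 : ⁅h₁ * C.xx (-3) * h₁⁻¹, h₁ * C.xx 0 * h₁⁻¹⁆ = h₁ * ⁅C.xx (-3), C.xx 0⁆ * h₁⁻¹ := by
      simp only [commutatorElement_def]; group
    rw [h5] at h4
    rcases hZel _ h4 with e | e
    · exact hc1 (conj_eq_one_iff.1 e)
    · refine hcr ?_
      calc c = h₁⁻¹ * (h₁ * c * h₁⁻¹) * h₁ := by group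
        _ = h₁⁻¹ * r * h₁ := by rw [show h₁ * c * h₁⁻¹ = r from e]
        _ = r := by rw [mul_assoc, (hrc h₁ hh₁).eq, inv_mul_cancel_left]
  obtain ⟨O, hOn, hOodd, hcore, hQO, φ, hφ, hker⟩ := main_step ((C.W 0 2).subgroupOf H) R (C.P.subgroupOf H)
    (fun g hg => (Subgroup.zpowers_le.2 hrW) hg) hRc
    (fun p hp q hq => Subtype.ext (habQ _ hp _ hq)) (fun q hq => Subtype.ext (hQ2 _ hq))
    (by rw [card_subgroupOf (hQP.trans hPH), hQ8, hR2]) hn
    (by rw [card_subgroupOf (hQP.trans hPH), hX])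
    (fun g hg => hQP hg) (by rw [card_subgroupOf (hQP.trans hPH), card_subgroupOf hPH, C.card_P, hk, hQ8]; rfl)
    (a := ⟨C.xx (-3), hm _ le_rfl (by norm_num)⟩) (b := ⟨C.xx 1, hm _ (by norm_num) le_rfl⟩)
    (e := ⟨C.xx (-2), hm _ (by norm_num) (by norm_num)⟩) (q₀ := ⟨C.xx 0, hm _ (by norm_num) (by norm_num)⟩)
    (C.W01 ▸ C.xx_mem (-3) (by norm_num) (by omega) : C.xx (-3) ∈ C.P) (Subtype.ext (C.xx_sq _))
    (C.xx_mem (-2) (by norm_num) (by omega) : C.xx (-2) ∈ C.W 0 2)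
    (Subtype.ext (C.commute_of_lt (p := -3) (q := -2) (by omega) (by omega)).eq)
    (C.xx_mem 0 le_rfl (by omega) : C.xx 0 ∈ C.W 0 2)
    (fun h => haq ((hcomm _ _).1 h)) (fun h => hbe ((hcomm _ _).1 h))
  -- a character moving `r`
  have hcP : c ∈ C.P := C.W01 ▸ C.W_mono (by norm_num : (-1 : ℤ) ≤ 0) (by norm_num) hcW
  set M0 : Subgroup G := Subgroup.closure {C.xx (-3), c} with hM0
  set M : Subgroup G := M0 ⊔ Subgroup.zpowers (C.xx 0) with hMdef
  have hcc : ∀ l : ℤ, -3 ≤ l → l ≤ 0 → Commute (C.xx l) c := by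
    intro l a b
    have h1gen : Subgroup.closure (C.gens (-2) (-1)) = C.W (-1) 2 := by
      rw [C.closure_gens (by norm_num) (by omega), hk]; rfl
    exact C.commute_gens (fun l' a' b' => C.commute_of_lt (by omega) (by omega)) (h1gen ▸ hcW)
  have hc2 : c * c = 1 := hQ2 c (C.W_mono (by norm_num) le_rfl hcW)
  have hM0c : Nat.card M0 ≤ 4 := by
    have hn0 : Subgroup.zpowers c ≤ Subgroup.normalizer ((Subgroup.zpowers (C.xx (-3))) : Set G) := by
      refine le_trans ?_ (Subgroup.centralizer_le_normalizer _)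
      rw [Subgroup.zpowers_le, Subgroup.mem_centralizer_iff]
      rintro _ ⟨j, rfl⟩
      exact ((hcc (-3) le_rfl (by norm_num)).zpow_left j).eq
    have hle : M0 ≤ Subgroup.zpowers (C.xx (-3)) ⊔ Subgroup.zpowers c := by
      rw [hM0, Subgroup.closure_le]
      rintro g (rfl | rfl)
      · exact Subgroup.mem_sup_left (Subgroup.mem_zpowers _)
      · exact Subgroup.mem_sup_right (Subgroup.mem_zpowers _)
    calc Nat.card M0 ≤ Nat.card ((Subgroup.zpowers (C.xx (-3)) : Set G) * (Subgroup.zpowers c : Set G) : Set G) := by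
          rw [← Subgroup.coe_mul_of_right_le_normalizer_left _ _ hn0]; exact Subgroup.card_le_of_le hle
      _ ≤ Nat.card (Subgroup.zpowers (C.xx (-3))) * Nat.card (Subgroup.zpowers c) := Set.natCard_mul_le
      _ = 4 := by
        rw [Nat.card_zpowers, Nat.card_zpowers, orderOf_eq_prime (by rw [pow_two]; exact C.xx_sq _) (C.xx_ne_one _),
          orderOf_eq_prime (by rw [pow_two]; exact hc2) hc1]
  have hn1 : Subgroup.zpowers (C.xx 0) ≤ Subgroup.normalizer (M0 : Set G) := by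
    rw [Subgroup.zpowers_le, Subgroup.mem_normalizer_iff_map_conj_eq]
    refine Subgroup.eq_of_le_of_card_ge ?_ (Subgroup.card_map_of_injective (MulAut.conj (C.xx 0)).injective).ge
    rw [hM0, MonoidHom.map_closure, Subgroup.closure_le]
    rintro _ ⟨g, (rfl | rfl), rfl⟩
    · have e : (MulAut.conj (C.xx 0)) (C.xx (-3)) = C.xx (-3) * c := by
        rw [hcdef, commutatorElement_def, MulAut.conj_apply]
        simp only [C.xx_inv, ← mul_assoc, C.xx_sq, one_mul]
      show (MulAut.conj (C.xx 0)) (C.xx (-3)) ∈ _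
      rw [e]
      exact mul_mem (Subgroup.subset_closure (Or.inl rfl)) (Subgroup.subset_closure (Or.inr rfl))
    · show C.xx 0 * c * (C.xx 0)⁻¹ ∈ _
      rw [(hcc 0 (by norm_num) le_rfl).eq, mul_inv_cancel_right]
      exact Subgroup.subset_closure (Or.inr rfl)
  have hM8 : Nat.card M ≤ 8 := by
    calc Nat.card M ≤ Nat.card ((M0 : Set G) * (Subgroup.zpowers (C.xx 0) : Set G) : Set G) := by
          rw [← Subgroup.coe_mul_of_right_le_normalizer_left _ _ hn1]; exact le_rfl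
      _ ≤ Nat.card M0 * Nat.card (Subgroup.zpowers (C.xx 0)) := Set.natCard_mul_le
      _ ≤ 4 * 2 := by
        rw [Nat.card_zpowers, orderOf_eq_prime (by rw [pow_two]; exact C.xx_sq _) (C.xx_ne_one _)]
        exact Nat.mul_le_mul_right 2 hM0c
  have hMP : M ≤ C.P := by
    rw [hMdef, hM0, sup_le_iff, Subgroup.closure_le, Subgroup.zpowers_le]
    refine ⟨?_, C.W01 ▸ C.xx_mem 0 le_rfl (by omega)⟩
    rintro g (rfl | rfl)
    · exact C.W01 ▸ C.xx_mem (-3) (by norm_num) (by omega)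
    · exact hcP
  have hP16 : Nat.card C.P = 16 := by rw [C.card_P, hk]; rfl
  have hPM : C.P ≤ M ⊔ Z := by
    rw [← hPgen, Subgroup.closure_le]
    rintro _ ⟨l, a, b, rfl⟩
    have hcM : c ∈ M := Subgroup.mem_sup_left (Subgroup.subset_closure (Or.inr rfl))
    rcases (show l = -3 ∨ l = -2 ∨ l = -1 ∨ l = 0 by omega) with rfl | rfl | rfl | rfl
    · exact Subgroup.mem_sup_left (Subgroup.mem_sup_left (Subgroup.subset_closure (Or.inl rfl)))
    · have e : C.xx (-2) = (C.xx (-2) * c) * c⁻¹ := by group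
      rw [SetLike.mem_coe, e]
      refine mul_mem (Subgroup.mem_sup_right ?_) (inv_mem (Subgroup.mem_sup_left hcM))
      rcases C.eq_xx_or_one (p := -1) (C.card_W_two (by norm_num) (by omega)) le_rfl (by omega) hx1c with e | e
      · rw [e]; exact one_mem Z
      · rw [e]; exact Subgroup.mem_zpowers r
    · exact Subgroup.mem_sup_right (Subgroup.mem_zpowers r)
    · exact Subgroup.mem_sup_left (Subgroup.mem_sup_right (Subgroup.mem_zpowers _))
  have hrM : r ∉ M := by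
    intro h
    have := Subgroup.card_le_of_le (hPM.trans (sup_le le_rfl (Subgroup.zpowers_le.2 h)))
    omega
  have hMc : Nat.card M = 8 := by
    have hn2 : Z ≤ Subgroup.normalizer (M : Set G) := by
      refine le_trans ?_ (Subgroup.centralizer_le_normalizer _)
      rw [hZ, Subgroup.zpowers_le, Subgroup.mem_centralizer_iff]
      exact fun g hg => (hrc g (hPH (hMP hg))).eq.symm
    have : 16 ≤ Nat.card M * 2 := by
      calc 16 = Nat.card C.P := hP16.symm
        _ ≤ Nat.card ((M : Set G) * (Z : Set G) : Set G) := by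
          rw [← Subgroup.coe_mul_of_right_le_normalizer_left _ _ hn2]; exact Subgroup.card_le_of_le hPM
        _ ≤ Nat.card M * Nat.card Z := Set.natCard_mul_le
        _ = Nat.card M * 2 := by rw [hZ, Nat.card_zpowers, hr2]
    omega
  have hM2 : (M.subgroupOf H).relIndex (C.P.subgroupOf H) = 2 := by
    rw [Subgroup.relIndex_subgroupOf hPH]
    have := Subgroup.relIndex_mul_relIndex (⊥ : Subgroup G) M C.P bot_le hMP
    rw [Subgroup.relIndex_bot_left, Subgroup.relIndex_bot_left, hMc, hP16] at this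
    omega
  set z : H := ⟨r, hm (-1) (by norm_num) (by norm_num)⟩ with hzdef
  obtain ⟨χ, hχ⟩ := exists_hom_ne_one _ (M.subgroupOf H) hidx hM2 z
    (hQP hrW : r ∈ C.P) hrM (fun g => hRc z (Subgroup.mem_zpowers r) g) (Subtype.ext (C.xx_sq (-1)))
  have hzR : z ∈ R := Subgroup.mem_zpowers r
  have hφz : φ z = 1 := by
    rw [← MonoidHom.mem_ker, hker]; exact Subgroup.mem_sup_left hzR
  let Φ : H →* Equiv.Perm (Fin 4) × Multiplicative (ZMod 2) := φ.prod χ
  have h2C := sq_two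
  have hsurj : Function.Surjective Φ := by
    rintro ⟨σ, t⟩
    obtain ⟨g, rfl⟩ := hφ σ
    have hdec := two_cases
    rcases hdec t (χ z) (χ g) hχ with e | e
    · exact ⟨g, by rw [e]; rfl⟩
    · exact ⟨z * g, by rw [e]; exact Prod.ext (by show φ (z * g) = φ g; rw [map_mul, hφz, one_mul]) (map_mul χ z g)⟩
  have hkerΦ : Φ.ker = O := by
    ext g
    rw [MonoidHom.mem_ker, MonoidHom.prod_apply, Prod.mk_eq_one, ← MonoidHom.mem_ker, hker]
    constructor
    · rintro ⟨hg, hgχ⟩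
      obtain ⟨w, hw, o, ho, rfl⟩ := Subgroup.mem_sup_of_normal_right.1 hg
      have ho' : χ o = 1 := prod_ker_odd ho hOodd χ h2C
      rw [map_mul, ho', mul_one] at hgχ
      rcases hZel _ hw with e | e
      · rw [show w = 1 from Subtype.ext e, one_mul]; exact ho
      · exact absurd (show w = z from Subtype.ext e) (fun e' => hχ (e' ▸ hgχ))
    · exact fun hg => ⟨Subgroup.mem_sup_right hg, prod_ker_odd hg hOodd χ h2C⟩
  exact ⟨(QuotientGroup.quotientMulEquivOfEq (hcore.trans hkerΦ.symm)).trans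
    (QuotientGroup.quotientKerEquivOfSurjective Φ hsurj)⟩

end Chain

end Cfsg.Agent.Lib.DihedralChain68
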