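import Cfsg.Agent.Lib.SimsThree.Chain

/-!
# Chains of index two whose point stabilizer is not a 2-group

helper68; adapted from `Lib.SimsThree.Chain` (helper64): the valency three is replaced by the hypothesis that the
group generated by two adjacent edge stabilizers is not a 2-group.
-/

set_option autoImplicit false
set_option linter.style.haveILetI false

open scoped commutatorElement

namespace Cfsg.Agent.Lib.DihedralChain68

open Cfsg.Agent.Lib.SimsThree (win mem_win win_mono win_glue conj_mem_win win_shift card_win_shift win_zero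
  comm_mem_of_half exponent_two_of_gens commute_closure)

variable {G : Type*} [Group G]

variable (G) in
/-- The data of a chain of index two: `P` is the stabilizer of the edge `[0,1]` of a path moved by `u`. -/
structure Chain where
  P : Subgroup G
  u : G
  k : ℕ
  x : G
  k_pos : 1 ≤ k
  x_mem : x ∈ win P u 0 ((k : ℤ) - 1)
  x_ne : x ≠ 1
  card_P : Nat.card P = 2 ^ k
  win_top : win P u 0 (k : ℤ) = ⊥
  step : ∀ lo hi : ℤ, lo ≤ hi → (win P u lo (hi + 1)).relIndex (win P u lo hi) ∣ 2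
  nocommon : ∀ X : Subgroup G, X ≤ P → win P u (-1) (-1) ⊔ P ≤ Subgroup.normalizer (X : Set G) →
    P ⊔ win P u 1 1 ≤ Subgroup.normalizer (X : Set G) → X = ⊥
  not_two : ¬ IsPGroup 2 (P ⊔ win P u 1 1 : Subgroup G)

namespace Chain

variable (C : Chain G)

/-- The window of the chain. -/
def W (lo hi : ℤ) : Subgroup G := win C.P C.u lo (hi - 1)

/-- The stabilizer of a point of the path. -/
def pt (q : ℤ) : Subgroup G := C.W (q - 1) q ⊔ C.W q (q + 1)

/-- The translates of the involution. -/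
def xx (p : ℤ) : G := C.u ^ p * C.x * (C.u ^ p)⁻¹

theorem xx_zero : C.xx 0 = C.x := by simp [xx]

theorem W_mono {lo hi lo' hi' : ℤ} (h1 : lo' ≤ lo) (h2 : hi ≤ hi') : C.W lo' hi' ≤ C.W lo hi :=
  win_mono h1 (by omega)

/-- Overlapping windows. -/
theorem W_glue {g : G} {lo hi lo' hi' a b : ℤ} (hg : g ∈ C.W lo hi) (hg' : g ∈ C.W lo' hi')
    (h : ∀ t, a ≤ t → t < b → (lo ≤ t ∧ t < hi) ∨ (lo' ≤ t ∧ t < hi')) : g ∈ C.W a b :=
  win_glue hg hg' fun t h1 h2 => by
    rcases h t h1 (by omega) with ⟨a1, a2⟩ | ⟨a1, a2⟩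
    · exact Or.inl ⟨a1, by omega⟩
    · exact Or.inr ⟨a1, by omega⟩

theorem conj_mem_W {g : G} {lo hi : ℤ} (s : ℤ) :
    C.u ^ s * g * (C.u ^ s)⁻¹ ∈ C.W (lo + s) (hi + s) ↔ g ∈ C.W lo hi := by
  unfold W
  rw [show hi + s - 1 = hi - 1 + s by ring]
  exact conj_mem_win s

theorem W_shift (lo hi s : ℤ) :
    C.W (lo + s) (hi + s) = (C.W lo hi).map (MulAut.conj (C.u ^ s)).toMonoidHom := by
  unfold W
  rw [show hi + s - 1 = hi - 1 + s by ring]
  exact win_shift _ _ _ _ _

theorem xx_mem (p : ℤ) {lo hi : ℤ} (h1 : p ≤ lo) (h2 : hi ≤ p + C.k) : C.xx p ∈ C.W lo hi := by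
  have := (conj_mem_win (H := C.P) (u := C.u) p).2 C.x_mem
  exact win_mono (by omega) (by omega) this

theorem xx_shift (p s : ℤ) : C.u ^ s * C.xx p * (C.u ^ s)⁻¹ = C.xx (p + s) := by
  rw [xx, xx, add_comm p s, zpow_add]; group

theorem W_eq_bot {lo hi : ℤ} (h : lo + C.k + 1 ≤ hi) : C.W lo hi = ⊥ := by
  refine le_bot_iff.1 fun g hg => ?_
  have h0 : (C.u ^ lo)⁻¹ * g * C.u ^ lo ∈ win C.P C.u 0 (C.k : ℤ) := by
    rw [← conj_mem_win lo]
    simp only [mul_inv_cancel_left, mul_assoc, mul_inv_cancel, mul_one]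
    exact win_mono (by omega) (by omega) hg
  rw [C.win_top, Subgroup.mem_bot, mul_eq_one_iff_eq_inv, mul_eq_left] at h0
  rw [Subgroup.mem_bot, h0]

theorem xx_ne_one (p : ℤ) : C.xx p ≠ 1 := by
  simp [xx, C.x_ne]

theorem xx_not_mem (p : ℤ) {lo hi : ℤ} (h : lo ≤ p + C.k) (h' : p + C.k + 1 ≤ hi) :
    C.xx p ∉ C.W lo hi := by
  intro hm
  refine C.xx_ne_one p (Subgroup.mem_bot.1 ?_)
  rw [← C.W_eq_bot (lo := p) (hi := p + C.k + 1) (by omega)]
  refine C.W_glue (C.xx_mem p (lo := p) (hi := p + C.k) le_rfl le_rfl) hm fun t h1 h2 => ?_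
  omega

variable [Finite G]

theorem card_base : ∀ j : ℕ, j ≤ C.k → Nat.card (C.W 0 (1 + j)) = 2 ^ (C.k - j)
  | 0, _ => by simpa [W, win_zero] using C.card_P
  | j + 1, hj => by
    have ih := card_base j (by omega)
    have hle : C.W 0 (1 + (j : ℤ) + 1) ≤ C.W 0 (1 + j) := C.W_mono le_rfl (by omega)
    have hne : ¬ C.W 0 (1 + (j : ℤ)) ≤ C.W 0 (1 + (j : ℤ) + 1) := fun h =>
      C.xx_not_mem (1 + j - C.k) (lo := 0) (hi := 1 + (j : ℤ) + 1) (by omega) (by omega)
        (h (C.xx_mem _ (by omega) (by omega)))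
    have hd : (C.W 0 (1 + (j : ℤ) + 1)).relIndex (C.W 0 (1 + j)) ∣ 2 := by
      have := C.step 0 (1 + j - 1) (by omega)
      rw [sub_add_cancel] at this
      unfold W
      rwa [add_sub_cancel_right]
    rcases (Nat.dvd_prime Nat.prime_two).1 hd with h | h
    · exact absurd (Subgroup.relIndex_eq_one.1 h) hne
    · have h' := Subgroup.relIndex_mul_relIndex (⊥ : Subgroup G) _ _ bot_le hle
      rw [Subgroup.relIndex_bot_left, Subgroup.relIndex_bot_left] at h'
      change _ * (C.W 0 (1 + (j : ℤ) + 1)).relIndex (C.W 0 (1 + j)) = _ at h'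
      rw [show (C.W 0 (1 + (j : ℤ) + 1)).relIndex (C.W 0 (1 + j)) = 2 from h, ih,
        show C.k - j = C.k - (j + 1) + 1 by omega, pow_succ] at h'
      rw [show (1 : ℤ) + ((j + 1 : ℕ) : ℤ) = 1 + j + 1 by push_cast; ring]
      exact Nat.eq_of_mul_eq_mul_right two_pos h'

theorem card_W {lo hi : ℤ} (h1 : lo + 1 ≤ hi) (h2 : hi ≤ lo + C.k + 1) :
    Nat.card (C.W lo hi) = 2 ^ (C.k + 1 - (hi - lo).toNat) := by
  obtain ⟨j, hj⟩ : ∃ j : ℕ, hi = lo + 1 + j := ⟨(hi - lo - 1).toNat, by omega⟩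
  subst hj
  have : Nat.card ((C.W 0 (1 + j)).map (MulAut.conj (C.u ^ lo)).toMonoidHom) = Nat.card (C.W 0 (1 + (j : ℤ))) :=
    Subgroup.card_map_of_injective (MulAut.conj (C.u ^ lo)).injective
  rw [← C.W_shift, zero_add, show 1 + (j : ℤ) + lo = lo + 1 + j by ring] at this
  rw [this]
  refine (C.card_base j (by omega)).trans ?_
  congr 1; omega

/-- The elements `x_p, …, x_q`. -/
def gens (p q : ℤ) : Set G := {g | ∃ l, p ≤ l ∧ l ≤ q ∧ g = C.xx l}

omit [Finite G] in
theorem xx_mem_gens {p q : ℤ} (l : ℤ) (h1 : p ≤ l) (h2 : l ≤ q) : C.xx l ∈ C.gens p q := ⟨l, h1, h2, rfl⟩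

theorem closure_gens_aux : ∀ (d : ℕ) (p : ℤ), d + 1 ≤ C.k →
    Subgroup.closure (C.gens p (p + d)) = C.W (p + d) (p + C.k)
  | d, p, hd => by
    have hle : Subgroup.closure (C.gens p (p + d)) ≤ C.W (p + d) (p + C.k) := by
      rw [Subgroup.closure_le]
      rintro _ ⟨l, h1, h2, rfl⟩
      exact C.xx_mem l h2 (by omega)
    have hmem : C.xx p ∈ Subgroup.closure (C.gens p (p + d)) :=
      Subgroup.subset_closure (C.xx_mem_gens p le_rfl (by omega))
    have hnot : C.xx p ∉ C.W (p + d) (p + C.k + 1) := C.xx_not_mem p (by omega) le_rfl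
    have hsub : C.W (p + d) (p + C.k + 1) ≤ Subgroup.closure (C.gens p (p + d)) := by
      match d, hd with
      | 0, _ => rw [C.W_eq_bot (by omega)]; exact bot_le
      | d + 1, hd =>
        have := closure_gens_aux d (p + 1) (by omega)
        rw [show p + 1 + (d : ℤ) = p + ((d + 1 : ℕ) : ℤ) by push_cast; ring,
          show p + 1 + (C.k : ℤ) = p + C.k + 1 by ring] at this
        rw [← this]
        refine Subgroup.closure_mono ?_
        rintro _ ⟨l, h1, h2, rfl⟩
        exact C.xx_mem_gens l (by omega) h2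
    have c1 := C.card_W (lo := p + d) (hi := p + C.k) (by omega) (by omega)
    have c2 := C.card_W (lo := p + d) (hi := p + C.k + 1) (by omega) (by omega)
    have c3 : Nat.card (C.W (p + d) (p + C.k)) = 2 * Nat.card (C.W (p + d) (p + C.k + 1)) := by
      rw [c1, c2, ← pow_succ']; congr 1; omega
    set S := Subgroup.closure (C.gens p (p + d))
    obtain ⟨m, hm⟩ := Subgroup.card_dvd_of_le hsub
    have h1 : m ≠ 1 := fun e => hnot ((Subgroup.eq_of_le_of_card_ge hsub (by rw [hm, e, mul_one])) ▸ hmem)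
    refine Subgroup.eq_of_le_of_card_ge hle ?_
    rw [c3, hm, mul_comm 2]
    refine Nat.mul_le_mul_left _ ?_
    rcases m with _ | m
    · exact absurd hm Nat.card_pos.ne'
    · omega

theorem closure_gens {p q : ℤ} (h1 : p ≤ q) (h2 : q + 1 ≤ p + C.k) :
    Subgroup.closure (C.gens p q) = C.W q (p + C.k) := by
  obtain ⟨d, rfl⟩ : ∃ d : ℕ, q = p + d := ⟨(q - p).toNat, by omega⟩
  exact C.closure_gens_aux d p (by omega)

theorem closure_gens_point (q : ℤ) : Subgroup.closure (C.gens (q - C.k) q) = C.pt q := by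
  have hk := C.k_pos
  have e1 := C.closure_gens (p := q - C.k) (q := q - 1) (by omega) (by omega)
  have e2 := C.closure_gens (p := q + 1 - C.k) (q := q) (by omega) (by omega)
  rw [sub_add_cancel] at e1 e2
  rw [pt, ← e1, ← e2, ← Subgroup.closure_union]
  congr 1
  ext g
  constructor
  · rintro ⟨l, h1, h2, rfl⟩
    rcases lt_or_ge l q with h | h
    · exact Or.inl (C.xx_mem_gens l h1 (by omega))
    · exact Or.inr (C.xx_mem_gens l (by omega) h2)
  · rintro (⟨l, h1, h2, rfl⟩ | ⟨l, h1, h2, rfl⟩) <;> exact C.xx_mem_gens l (by omega) (by omega)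

theorem xx_sq (p : ℤ) : C.xx p * C.xx p = 1 := by
  have hk := C.k_pos
  have hc : Nat.card (C.W 0 (C.k : ℤ)) = 2 := by
    rw [C.card_W (by omega) (by omega), show C.k + 1 - ((C.k : ℤ) - 0).toNat = 1 by omega, pow_one]
  obtain ⟨z, hz1, hz⟩ := (Nat.card_eq_two_iff' (1 : C.W 0 (C.k : ℤ))).1 hc
  have hx : C.x ∈ C.W 0 (C.k : ℤ) := C.x_mem
  have e1 := hz ⟨C.x, hx⟩ (fun h => C.x_ne (congrArg Subtype.val h))
  have h0 : C.x * C.x = 1 := by
    by_contra h
    have e2 := hz ⟨C.x * C.x, mul_mem hx hx⟩ (fun e => h (congrArg Subtype.val e))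
    exact C.x_ne (mul_eq_left.1 (congrArg Subtype.val (e2.trans e1.symm)))
  rw [xx]
  calc C.u ^ p * C.x * (C.u ^ p)⁻¹ * (C.u ^ p * C.x * (C.u ^ p)⁻¹)
      = C.u ^ p * (C.x * C.x) * (C.u ^ p)⁻¹ := by group
    _ = 1 := by rw [h0]; group

theorem xx_inv (p : ℤ) : (C.xx p)⁻¹ = C.xx p := inv_eq_of_mul_eq_one_left (C.xx_sq p)

omit [Finite G] in
theorem commute_shift {p q : ℤ} (s : ℤ) (h : Commute (C.xx p) (C.xx q)) :
    Commute (C.xx (p + s)) (C.xx (q + s)) := by
  rw [← C.xx_shift, ← C.xx_shift]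
  exact h.map (MulAut.conj (C.u ^ s)).toMonoidHom

theorem commute_gens {z g : G} {p q : ℤ} (h : ∀ l, p ≤ l → l ≤ q → Commute z (C.xx l))
    (hg : g ∈ Subgroup.closure (C.gens p q)) : Commute z g :=
  commute_closure (S := C.gens p q) (fun _ ⟨l, h1, h2, e⟩ => e ▸ h l h1 h2) hg

theorem sq_gens {g : G} {p q : ℤ}
    (h : ∀ l l', p ≤ l → l ≤ q → p ≤ l' → l' ≤ q → Commute (C.xx l) (C.xx l'))
    (hg : g ∈ Subgroup.closure (C.gens p q)) : g * g = 1 :=
  (exponent_two_of_gens (S := C.gens p q) (fun _ ⟨l, _, _, e⟩ => e ▸ C.xx_sq l)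
    (fun _ ⟨l, h1, h2, e⟩ _ ⟨l', h1', h2', e'⟩ => e ▸ e' ▸ h l l' h1 h2 h1' h2') hg).1

/-- The commutator of two of the involutions lies in the group of those between them. -/
theorem comm_mem {p q : ℤ} (h1 : p < q) (h2 : q + 1 ≤ p + C.k) :
    ⁅C.xx p, C.xx q⁆ ∈ C.W (q - 1) (p + C.k + 1) := by
  have hA := comm_mem_of_half (A := C.W (q - 1) (p + C.k)) (B := C.W q (p + C.k))
    (C.W_mono (by omega) le_rfl)
    (by rw [C.card_W (by omega) (by omega), C.card_W (by omega) (by omega), ← pow_succ']; congr 1; omega)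
    (C.xx_mem p (by omega) le_rfl) (C.xx_mem q le_rfl (by omega))
  have hB := comm_mem_of_half (A := C.W q (p + C.k + 1)) (B := C.W q (p + C.k))
    (C.W_mono le_rfl (by omega))
    (by rw [C.card_W (by omega) (by omega), C.card_W (by omega) (by omega), ← pow_succ']; congr 1; omega)
    (C.xx_mem q le_rfl (by omega)) (C.xx_mem p (by omega) le_rfl)
  exact C.W_glue hA.1 hB.2 fun t ht1 ht2 => by omega

theorem exists_not_commute : ∃ d : ℕ, d ≤ C.k ∧ ¬ Commute (C.xx 0) (C.xx (d : ℤ)) := by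
  by_contra hcon
  push Not at hcon
  have hgen := C.closure_gens_point 1
  have h2 : ∀ g ∈ C.pt 1, g * g = 1 := by
    intro g hg
    rw [← hgen] at hg
    refine C.sq_gens (fun l l' h1 h2 h1' h2' => ?_) hg
    rcases le_total l l' with hll | hll
    · have := C.commute_shift l (hcon (l' - l).toNat (by omega))
      rw [zero_add, Int.toNat_of_nonneg (by omega), sub_add_cancel] at this
      exact this
    · have := C.commute_shift l' (hcon (l - l').toNat (by omega))
      rw [zero_add, Int.toNat_of_nonneg (by omega), sub_add_cancel] at this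
      exact this.symm
  refine C.not_two fun g => ⟨1, Subtype.ext ?_⟩
  show (g : G) ^ (2 ^ 1) = 1
  rw [pow_one, pow_two]
  refine h2 _ ?_
  have e : C.pt 1 = C.P ⊔ win C.P C.u 1 1 := by simp [pt, W, win_zero]
  rw [e]; exact g.2

open Classical in
/-- The first distance at which two of the involutions do not commute. -/
noncomputable def lam : ℕ := Nat.find C.exists_not_commute

open Classical in
theorem lam_le : C.lam ≤ C.k := (Nat.find_spec C.exists_not_commute).1

open Classical in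
theorem not_commute_lam : ¬ Commute (C.xx 0) (C.xx (C.lam : ℤ)) := (Nat.find_spec C.exists_not_commute).2

theorem commute_of_lt {p q : ℤ} (h1 : q < p + C.lam) (h2 : p < q + C.lam) : Commute (C.xx p) (C.xx q) := by
  classical
  have key : ∀ d : ℕ, d < C.lam → Commute (C.xx 0) (C.xx (d : ℤ)) := fun d hd => by
    have := Nat.find_min C.exists_not_commute hd
    push Not at this
    exact this (by have := C.lam_le; omega)
  rcases le_total p q with h | h
  · have := C.commute_shift p (key (q - p).toNat (by omega))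
    rw [zero_add, Int.toNat_of_nonneg (by omega), sub_add_cancel] at this
    exact this
  · have := C.commute_shift q (key (p - q).toNat (by omega))
    rw [zero_add, Int.toNat_of_nonneg (by omega), sub_add_cancel] at this
    exact this.symm

theorem not_commute_shift (p : ℤ) : ¬ Commute (C.xx p) (C.xx (p + C.lam)) := fun h => C.not_commute_lam (by
  have := C.commute_shift (-p) h
  rwa [add_neg_cancel, show p + C.lam + -p = (C.lam : ℤ) by ring] at this)

theorem two_le_lam (hk : 2 ≤ C.k) : 2 ≤ C.lam := by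
  have hn := C.not_commute_lam
  by_contra h
  rcases (show C.lam = 0 ∨ C.lam = 1 by omega) with e | e
  · rw [e] at hn; exact hn (Commute.refl _)
  · rw [e] at hn
    have := C.comm_mem (p := 0) (q := 1) one_pos (by omega)
    rw [C.W_eq_bot (by omega), Subgroup.mem_bot, commutatorElement_eq_one_iff_mul_comm] at this
    exact hn this

theorem normalizer_point {A : Subgroup G} (q : ℤ)
    (h : ∀ l, q - C.k ≤ l → l ≤ q → C.xx l ∈ Subgroup.normalizer (A : Set G)) :
    C.pt q ≤ Subgroup.normalizer (A : Set G) := by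
  rw [← C.closure_gens_point, Subgroup.closure_le]
  rintro _ ⟨l, h1, h2, rfl⟩
  exact h l h1 h2

omit [Finite G] in
theorem nocommon_shift (q : ℤ) {X : Subgroup G} (h : X ≤ C.W q (q + 1))
    (h1 : C.pt q ≤ Subgroup.normalizer (X : Set G)) (h2 : C.pt (q + 1) ≤ Subgroup.normalizer (X : Set G)) :
    X = ⊥ := by
  set f := (MulAut.conj (C.u ^ (-q))).toMonoidHom with hf
  have e : ∀ lo hi : ℤ, (C.W lo hi).map f = C.W (lo + -q) (hi + -q) := fun lo hi => (C.W_shift _ _ _).symm
  have hN : ∀ {A : Subgroup G}, A ≤ Subgroup.normalizer (X : Set G) →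
      A.map f ≤ Subgroup.normalizer ((X.map f : Subgroup G) : Set G) := fun hA =>
    (Subgroup.map_mono hA).trans (Subgroup.le_normalizer_map f)
  have hP : C.W 0 1 = C.P := by simp [W, win_zero]
  have hX : X.map f = ⊥ := by
    refine C.nocommon _ ?_ ?_ ?_
    · have h' := Subgroup.map_mono (f := f) h
      rwa [e, add_neg_cancel, show q + 1 + -q = (1 : ℤ) by ring, hP] at h'
    · have h' := hN h1
      rw [pt, Subgroup.map_sup, e, e, show q - 1 + -q = (-1 : ℤ) by ring, add_neg_cancel,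
        show q + 1 + -q = (1 : ℤ) by ring, hP] at h'
      simpa [W] using h'
    · have h' := hN h2
      rw [pt, Subgroup.map_sup, e, e, show q + 1 - 1 + -q = (0 : ℤ) by ring, show q + 1 + -q = (1 : ℤ) by ring,
        show q + 1 + 1 + -q = (2 : ℤ) by ring, hP] at h'
      simpa [W] using h'
  exact (Subgroup.map_eq_bot_iff_of_injective _ (MulAut.conj (C.u ^ (-q))).injective).1 hX

theorem upper (hk : 2 ≤ C.k) : 2 * C.lam ≤ C.k + 2 := by
  by_contra h
  push Not at h
  have hl := C.lam_le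
  obtain ⟨j, hj⟩ : ∃ j : ℤ, j = (C.k : ℤ) + 1 - C.lam := ⟨_, rfl⟩
  have hcomm : ∀ l : ℤ, -1 ≤ l → l ≤ C.k → Commute (C.xx l) (C.xx j) := fun l h1 h2 =>
    C.commute_of_lt (by omega) (by omega)
  have hn : ∀ l : ℤ, -1 ≤ l → l ≤ C.k → C.xx l ∈ Subgroup.normalizer (Subgroup.zpowers (C.xx j) : Set G) := by
    intro l h1 h2
    refine Subgroup.centralizer_le_normalizer _ ?_
    rw [Subgroup.mem_centralizer_iff]
    rintro _ ⟨n, rfl⟩
    exact ((hcomm l h1 h2).zpow_right n).eq.symm
  refine C.xx_ne_one j (Subgroup.zpowers_eq_bot.1 (C.nocommon_shift ((C.k : ℤ) - 1) ?_ ?_ ?_))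
  · rw [Subgroup.zpowers_le]
    exact C.xx_mem j (by omega) (by omega)
  · exact C.normalizer_point _ fun l h1 h2 => hn l (by omega) (by omega)
  · exact C.normalizer_point _ fun l h1 h2 => hn l (by omega) (by omega)

/-- The commutator `[x₀, x_λ]` is squeezed into the middle. -/
theorem comm_lam_mem (hk : 2 ≤ C.k) (hl : C.lam + 1 ≤ C.k) :
    ⁅C.xx 0, C.xx (C.lam : ℤ)⁆ ∈ C.W (2 * (C.lam : ℤ) - C.k) (2 * (C.k : ℤ) - C.lam) := by
  have h2 := C.two_le_lam hk
  set y := ⁅C.xx 0, C.xx (C.lam : ℤ)⁆ with hy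
  have hy0 := C.comm_mem (p := 0) (q := (C.lam : ℤ)) (by omega) (by omega)
  rw [← hy, zero_add] at hy0
  -- a `x_t` moving `x₀` by elements commuting with `x_λ` fixes `y`
  have moveL : ∀ t : ℤ, (C.lam : ℤ) < t → t + 1 ≤ C.k → t < 2 * (C.lam : ℤ) → Commute (C.xx t) y := by
    intro t h1 h3 h4
    set c := ⁅C.xx 0, C.xx t⁆ with hc
    have hcm : c ∈ C.W (t - 1) (1 + C.k) := by
      have := C.comm_mem (p := 0) (q := t) (by omega) (by omega)
      rw [zero_add, add_comm (C.k : ℤ) 1] at this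
      exact this
    rw [← C.closure_gens (by omega) (by omega)] at hcm
    have hcl : Commute (C.xx (C.lam : ℤ)) c :=
      C.commute_gens (fun l l1 l2 => C.commute_of_lt (by omega) (by omega)) hcm
    have htl : Commute (C.xx t) (C.xx (C.lam : ℤ)) := C.commute_of_lt (by omega) (by omega)
    have e0 : C.xx t * C.xx 0 * (C.xx t)⁻¹ = C.xx 0 * c := by
      rw [hc, commutatorElement_def]
      simp only [C.xx_inv, mul_assoc]
      rw [← mul_assoc (C.xx 0) (C.xx 0), C.xx_sq, one_mul]
    have e1 : C.xx t * C.xx (C.lam : ℤ) * (C.xx t)⁻¹ = C.xx (C.lam : ℤ) := htl.mul_inv_cancel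
    have e2 : C.xx t * y * (C.xx t)⁻¹ = y := by
      have : C.xx t * y * (C.xx t)⁻¹ =
          ⁅C.xx t * C.xx 0 * (C.xx t)⁻¹, C.xx t * C.xx (C.lam : ℤ) * (C.xx t)⁻¹⁆ := by
        simp only [hy, commutatorElement_def]; group
      rw [this, e0, e1, hy, commutatorElement_def, commutatorElement_def]
      calc C.xx 0 * c * C.xx (C.lam : ℤ) * (C.xx 0 * c)⁻¹ * (C.xx (C.lam : ℤ))⁻¹
          = C.xx 0 * (c * C.xx (C.lam : ℤ) * c⁻¹) * (C.xx 0)⁻¹ * (C.xx (C.lam : ℤ))⁻¹ := by group
        _ = _ := by rw [hcl.symm.mul_inv_cancel]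
    rw [mul_inv_eq_iff_eq_mul] at e2
    exact e2
  -- the mirror statement
  have moveR : ∀ t : ℤ, t < 0 → (C.lam : ℤ) - t + 1 ≤ C.k → -t < (C.lam : ℤ) → Commute (C.xx t) y := by
    intro t h1 h3 h4
    set c := ⁅C.xx (C.lam : ℤ), C.xx t⁆ with hc
    have hcm : c ∈ C.W ((C.lam : ℤ) - 1) (t + C.k + 1) := by
      rw [hc, ← commutatorElement_inv]
      exact inv_mem (C.comm_mem (by omega) (by omega))
    rw [show t + (C.k : ℤ) + 1 = (t + 1) + C.k by ring, ← C.closure_gens (by omega) (by omega)] at hcm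
    have hcl : Commute (C.xx 0) c :=
      C.commute_gens (fun l l1 l2 => C.commute_of_lt (by omega) (by omega)) hcm
    have htl : Commute (C.xx t) (C.xx 0) := C.commute_of_lt (by omega) (by omega)
    have e0 : C.xx t * C.xx (C.lam : ℤ) * (C.xx t)⁻¹ = C.xx (C.lam : ℤ) * c := by
      rw [hc, commutatorElement_def]
      simp only [C.xx_inv, mul_assoc]
      rw [← mul_assoc (C.xx (C.lam : ℤ)) (C.xx (C.lam : ℤ)), C.xx_sq, one_mul]
    have e1 : C.xx t * C.xx 0 * (C.xx t)⁻¹ = C.xx 0 := htl.mul_inv_cancel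
    have e2 : C.xx t * y * (C.xx t)⁻¹ = y := by
      have : C.xx t * y * (C.xx t)⁻¹ =
          ⁅C.xx t * C.xx 0 * (C.xx t)⁻¹, C.xx t * C.xx (C.lam : ℤ) * (C.xx t)⁻¹⁆ := by
        simp only [hy, commutatorElement_def]; group
      rw [this, e0, e1, hy, commutatorElement_def, commutatorElement_def]
      calc C.xx 0 * (C.xx (C.lam : ℤ) * c) * (C.xx 0)⁻¹ * (C.xx (C.lam : ℤ) * c)⁻¹
          = C.xx 0 * C.xx (C.lam : ℤ) * (c * (C.xx 0)⁻¹ * c⁻¹) * (C.xx (C.lam : ℤ))⁻¹ := by group
        _ = _ := by rw [hcl.inv_left.symm.mul_inv_cancel]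
    rw [mul_inv_eq_iff_eq_mul] at e2
    exact e2
  -- split off one end
  have endL : ∀ m : ℕ, 1 + m ≤ C.k - C.lam → y ∈ C.W ((C.lam : ℤ) - 1) (1 + m + C.k) := by
    intro m
    induction m with
    | zero => intro _; rw [Nat.cast_zero, add_zero, add_comm (1 : ℤ)]; exact hy0
    | succ m ih =>
      intro hm
      have hm' := ih (by omega)
      set i : ℤ := 1 + m with hi
      rw [show (1 : ℤ) + ((m + 1 : ℕ) : ℤ) = i + 1 by rw [hi]; push_cast; ring]
      by_cases hshort : (C.lam : ℤ) - 1 < i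
      · rw [C.W_eq_bot (by omega)] at hm'
        rw [Subgroup.mem_bot.1 hm']; exact one_mem _
      by_contra hnot
      set A := C.W ((C.lam : ℤ) - 1) (i + 1 + C.k)
      set B := C.W ((C.lam : ℤ) - 1) (i + C.k)
      have hAB : A ≤ B := C.W_mono le_rfl (by omega)
      have hidx : (A.subgroupOf B).index = 2 := by
        have h' := Subgroup.card_mul_index (A.subgroupOf B)
        rw [Nat.card_congr (Subgroup.subgroupOfEquivOfLe hAB).toEquiv, C.card_W (by omega) (by omega),
          C.card_W (by omega) (by omega)] at h'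
        rw [show C.k + 1 - (i + (C.k : ℤ) - ((C.lam : ℤ) - 1)).toNat =
          C.k + 1 - (i + 1 + (C.k : ℤ) - ((C.lam : ℤ) - 1)).toNat + 1 by omega, pow_succ] at h'
        exact Nat.eq_of_mul_eq_mul_left (pow_pos two_pos _) h'
      have hxi : C.xx i ∈ B := C.xx_mem i (by omega) le_rfl
      have hxA : C.xx i ∉ A := C.xx_not_mem i (by omega) (by omega)
      have hz : C.xx i * y ∈ A :=
        (Subgroup.mul_mem_iff_of_index_two hidx (a := ⟨C.xx i, hxi⟩) (b := ⟨y, hm'⟩)).2
          ⟨fun h => absurd h hxA, fun h => absurd h hnot⟩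
      have ht1 : Commute (C.xx (i + C.lam)) y := moveL _ (by omega) (by omega) (by omega)
      have ht2 : Commute (C.xx (i + C.lam)) (C.xx i * y) := by
        have hz' : C.xx i * y ∈ C.W ((C.lam : ℤ) - 1) ((i + 1) + C.k) := hz
        by_cases hi1 : (C.lam : ℤ) - 1 < i + 1
        · rw [C.W_eq_bot (by omega), Subgroup.mem_bot] at hz'
          rw [hz']; exact Commute.one_right _
        rw [← C.closure_gens (by omega) (by omega)] at hz'
        exact C.commute_gens (fun l l1 l2 => C.commute_of_lt (by omega) (by omega)) hz'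
      have := ht2.mul_right ht1.inv_right
      rw [mul_inv_cancel_right] at this
      exact C.not_commute_shift i this.symm
  have endR : ∀ m : ℕ, 1 + m ≤ C.k - C.lam → y ∈ C.W ((C.lam : ℤ) - 1 - m) (1 + C.k) := by
    intro m
    induction m with
    | zero => intro _; rw [Nat.cast_zero, sub_zero, add_comm (1 : ℤ)]; exact hy0
    | succ m ih =>
      intro hm
      have hm' := ih (by omega)
      set j : ℤ := (C.lam : ℤ) - 1 - m with hj
      rw [show (C.lam : ℤ) - 1 - ((m + 1 : ℕ) : ℤ) = j - 1 by rw [hj]; push_cast; ring]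
      by_cases hshort : j < 1
      · rw [C.W_eq_bot (by omega)] at hm'
        rw [Subgroup.mem_bot.1 hm']; exact one_mem _
      by_contra hnot
      set A := C.W (j - 1) (1 + C.k)
      set B := C.W j (1 + C.k)
      have hAB : A ≤ B := C.W_mono (by omega) le_rfl
      have hidx : (A.subgroupOf B).index = 2 := by
        have h' := Subgroup.card_mul_index (A.subgroupOf B)
        rw [Nat.card_congr (Subgroup.subgroupOfEquivOfLe hAB).toEquiv, C.card_W (by omega) (by omega),
          C.card_W (by omega) (by omega)] at h'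
        rw [show C.k + 1 - (1 + (C.k : ℤ) - j).toNat = C.k + 1 - (1 + (C.k : ℤ) - (j - 1)).toNat + 1 by omega,
          pow_succ] at h'
        exact Nat.eq_of_mul_eq_mul_left (pow_pos two_pos _) h'
      have hxj : C.xx j ∈ B := C.xx_mem j le_rfl (by omega)
      have hxA : C.xx j ∉ A := by
        intro h
        refine C.xx_ne_one j (Subgroup.mem_bot.1 ?_)
        rw [← C.W_eq_bot (lo := j - 1) (hi := j + C.k) (by omega)]
        exact C.W_glue h (C.xx_mem j (lo := j) (hi := j + C.k) le_rfl le_rfl) fun t h1 h2 => by omega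
      have hz : C.xx j * y ∈ A :=
        (Subgroup.mul_mem_iff_of_index_two hidx (a := ⟨C.xx j, hxj⟩) (b := ⟨y, hm'⟩)).2
          ⟨fun h => absurd h hxA, fun h => absurd h hnot⟩
      have ht1 : Commute (C.xx (j - C.lam)) y := moveR _ (by omega) (by omega) (by omega)
      have ht2 : Commute (C.xx (j - C.lam)) (C.xx j * y) := by
        have hz' : C.xx j * y ∈ C.W (j - 1) (1 + C.k) := hz
        by_cases hj1 : j - 1 < 1
        · rw [C.W_eq_bot (by omega), Subgroup.mem_bot] at hz'
          rw [hz']; exact Commute.one_right _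
        rw [← C.closure_gens (by omega) (by omega)] at hz'
        exact C.commute_gens (fun l l1 l2 => C.commute_of_lt (by omega) (by omega)) hz'
      have := ht2.mul_right ht1.inv_right
      rw [mul_inv_cancel_right] at this
      have h' := C.not_commute_shift (j - C.lam)
      rw [sub_add_cancel] at h'
      exact h' this
  have hm := endL (C.k - C.lam - 1) (by omega)
  have hm' := endR (C.k - C.lam - 1) (by omega)
  exact C.W_glue hm hm' fun t h1 h3 => by omega

theorem lower (hk : 2 ≤ C.k) : 2 * C.k ≤ 3 * C.lam := by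
  by_contra h
  push Not at h
  have hl : C.lam + 1 ≤ C.k := by omega
  have := C.comm_lam_mem hk hl
  rw [C.W_eq_bot (by omega), Subgroup.mem_bot, commutatorElement_eq_one_iff_mul_comm] at this
  exact C.not_commute_lam this

omit [Finite G] in
theorem comm_mem_shift {p q lo hi : ℤ} (s : ℤ) (h : ⁅C.xx p, C.xx q⁆ ∈ C.W lo hi) :
    ⁅C.xx (p + s), C.xx (q + s)⁆ ∈ C.W (lo + s) (hi + s) := by
  have h' := (C.conj_mem_W s).2 h
  rw [← C.xx_shift, ← C.xx_shift]
  simpa [commutatorElement_def, mul_assoc, W] using h'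

theorem k_ne_six : C.k ≠ 6 := by
  intro hk
  have hl : C.lam = 4 := by
    have := C.upper (by omega)
    have := C.lower (by omega)
    omega
  have hk' : (C.k : ℤ) = 6 := by omega
  have hl' : (C.lam : ℤ) = 4 := by omega
  have hd : ⁅C.xx 0, C.xx 4⁆ ∈ C.W 2 8 := by
    have := C.comm_lam_mem (by omega) (by omega)
    rw [hk', hl'] at this
    exact this
  have hAgen : Subgroup.closure (C.gens 1 4) = C.W 4 7 := by
    rw [C.closure_gens (by omega) (by omega), hk']; rfl
  have hA2 : ∀ g ∈ C.W 4 7, g * g = 1 := fun g hg => by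
    rw [← hAgen] at hg
    refine C.sq_gens (fun l l' h1 h2 h1' h2' => ?_) hg
    exact C.commute_of_lt (by omega) (by omega)
  -- `[x₀, x₅]`
  set c := ⁅C.xx 0, C.xx 5⁆ with hc
  have hcA : c ∈ C.W 4 7 := by
    have := C.comm_mem (p := 0) (q := 5) (by norm_num) (by omega)
    rw [hk', zero_add, show (5 : ℤ) - 1 = 4 by norm_num, show (6 : ℤ) + 1 = 7 by norm_num] at this
    exact this
  have hcinv : c⁻¹ = c := inv_eq_of_mul_eq_one_left (hA2 c hcA)
  have hc0 : Commute (C.xx 0) c := by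
    have : C.xx 0 * c * (C.xx 0)⁻¹ = c⁻¹ := by
      rw [hc, commutatorElement_def]
      simp only [C.xx_inv, mul_inv_rev, mul_assoc]
      rw [← mul_assoc (C.xx 0) (C.xx 0), C.xx_sq, one_mul]
    rw [hcinv, mul_inv_eq_iff_eq_mul] at this
    exact this
  have hc5 : Commute (C.xx 5) c := by
    have : C.xx 5 * c * (C.xx 5)⁻¹ = c⁻¹ := by
      rw [hc, commutatorElement_def]
      simp only [C.xx_inv, mul_inv_rev, mul_assoc]
      rw [C.xx_sq, mul_one]
    rw [hcinv, mul_inv_eq_iff_eq_mul] at this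
    exact this
  have half : ∀ {A B : Subgroup G}, A ≤ B → Nat.card B = 2 * Nat.card A → ∀ {a g : G}, a ∈ B → a ∉ A →
      g ∈ B → g ∉ A → a * g ∈ A := by
    intro A B hAB hcard a g ha haA hg hgA
    have hidx : (A.subgroupOf B).index = 2 := by
      have h' := Subgroup.card_mul_index (A.subgroupOf B)
      rw [Nat.card_congr (Subgroup.subgroupOfEquivOfLe hAB).toEquiv, hcard, mul_comm 2] at h'
      exact Nat.eq_of_mul_eq_mul_left Nat.card_pos h'
    exact (Subgroup.mul_mem_iff_of_index_two hidx (a := ⟨a, ha⟩) (b := ⟨g, hg⟩)).2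
      ⟨fun h => absurd h haA, fun h => absurd h hgA⟩
  have hcard : ∀ lo hi : ℤ, lo + 1 ≤ hi → hi ≤ lo + 6 → Nat.card (C.W lo hi) = 2 * Nat.card (C.W lo (hi + 1)) := by
    intro lo hi h1 h2
    rw [C.card_W (by omega) (by omega), C.card_W (by omega) (by omega), ← pow_succ']; congr 1; omega
  have hf : c ∈ C.W 3 7 := by
    by_contra hnot
    have hz : C.xx 4 * c ∈ C.W 3 7 := by
      refine half (C.W_mono (by norm_num) le_rfl) ?_ (C.xx_mem 4 le_rfl (by omega)) ?_ hcA hnot
      · show Nat.card (C.W 4 7) = 2 * Nat.card (C.W 3 7)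
        rw [C.card_W (by omega) (by omega), C.card_W (by omega) (by omega), ← pow_succ']; congr 1; omega
      · intro h
        refine C.xx_ne_one 4 (Subgroup.mem_bot.1 ?_)
        rw [← C.W_eq_bot (lo := 3) (hi := 10) (by omega)]
        exact C.W_glue h (C.xx_mem 4 (lo := 4) (hi := 10) le_rfl (by omega)) fun t h1 h2 => by omega
    rw [show (7 : ℤ) = 1 + C.k by omega, ← C.closure_gens (by omega) (by omega)] at hz
    have h0 := (C.commute_gens (fun l l1 l2 => C.commute_of_lt (by omega) (by omega)) hz :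
      Commute (C.xx 0) (C.xx 4 * c))
    have := h0.mul_right hc0.inv_right
    rw [mul_inv_cancel_right] at this
    exact C.not_commute_lam (by rw [hl']; exact this)
  have ha : c ∈ C.W 4 8 := by
    by_contra hnot
    have hz : C.xx 1 * c ∈ C.W 4 8 := by
      refine half (C.W_mono le_rfl (by norm_num)) (hcard 4 7 (by norm_num) (by norm_num))
        (C.xx_mem 1 (by norm_num) (by omega)) (C.xx_not_mem 1 (by omega) (by omega)) hcA hnot
    rw [show (8 : ℤ) = 2 + C.k by omega, ← C.closure_gens (by omega) (by omega)] at hz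
    have h0 := (C.commute_gens (fun l l1 l2 => C.commute_of_lt (by omega) (by omega)) hz :
      Commute (C.xx 5) (C.xx 1 * c))
    have h5 := h0.mul_right hc5.inv_right
    rw [mul_inv_cancel_right] at h5
    have := C.not_commute_shift 1
    rw [hl', show (1 : ℤ) + 4 = 5 by norm_num] at this
    exact this h5.symm
  -- the generators of the two stabilizers normalize `⟨x₁, …, x₄⟩`
  have hgen : ∀ p l : ℤ, -1 ≤ p → p ≤ 6 → 1 ≤ l → l ≤ 4 → ⁅C.xx p, C.xx l⁆ ∈ C.W 4 7 := by
    intro p l hp1 hp2 hl1 hl2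
    by_cases hclose : p < l + 4 ∧ l < p + 4
    · have : ⁅C.xx p, C.xx l⁆ = 1 :=
        commutatorElement_eq_one_iff_mul_comm.2 (C.commute_of_lt (by omega) (by omega)).eq
      rw [this]; exact one_mem _
    · have hd' : ∀ s : ℤ, ⁅C.xx s, C.xx (4 + s)⁆ ∈ C.W (2 + s) (8 + s) := fun s => by
        simpa using C.comm_mem_shift s hd
      have hsymm : ∀ a b : G, ∀ lo hi : ℤ, ⁅a, b⁆ ∈ C.W lo hi → ⁅b, a⁆ ∈ C.W lo hi := fun a b lo hi h => by
        rw [← commutatorElement_inv]; exact inv_mem h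
      have hcases : (p = -1 ∧ l = 3) ∨ (p = -1 ∧ l = 4) ∨ (p = 0 ∧ l = 4) ∨ (p = 5 ∧ l = 1) ∨
          (p = 6 ∧ l = 1) ∨ (p = 6 ∧ l = 2) := by omega
      rcases hcases with ⟨rfl, rfl⟩ | ⟨rfl, rfl⟩ | ⟨rfl, rfl⟩ | ⟨rfl, rfl⟩ | ⟨rfl, rfl⟩ | ⟨rfl, rfl⟩
      · exact C.W_mono (by norm_num) (by norm_num) (hd' (-1))
      · have h' := C.comm_mem_shift (-1) ha
        norm_num at h'
        exact C.W_mono (by norm_num) (by norm_num) h'
      · exact C.W_mono (by norm_num) (by norm_num) hd
      · exact hsymm _ _ _ _ (C.W_mono (by norm_num) (by norm_num) (hd' 1))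
      · have h' := C.comm_mem_shift 1 hf
        norm_num at h'
        exact hsymm _ _ _ _ (C.W_mono (by norm_num) (by norm_num) h')
      · exact hsymm _ _ _ _ (C.W_mono (by norm_num) (by norm_num) (hd' 2))
  have hnorm : ∀ p : ℤ, -1 ≤ p → p ≤ 6 → C.xx p ∈ Subgroup.normalizer (C.W 4 7 : Set G) := by
    intro p hp1 hp2
    rw [Subgroup.mem_normalizer_iff_map_conj_eq]
    refine Subgroup.eq_of_le_of_card_ge ?_ (Subgroup.card_map_of_injective (MulAut.conj (C.xx p)).injective).ge
    conv_lhs => rw [← hAgen]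
    rw [MonoidHom.map_closure, Subgroup.closure_le]
    rintro _ ⟨_, ⟨l, h1, h2, rfl⟩, rfl⟩
    have h' := mul_mem (hgen p l hp1 hp2 h1 h2)
      (C.xx_mem l (lo := 4) (hi := 7) h2 (by omega))
    simpa [commutatorElement_def, mul_assoc] using h'
  have hbot := C.nocommon_shift 5 (X := C.W 4 7) (C.W_mono (by norm_num) (by norm_num))
    (C.normalizer_point _ fun l h1 h2 => hnorm l (by omega) (by omega))
    (C.normalizer_point _ fun l h1 h2 => hnorm l (by omega) (by omega))
  refine C.xx_ne_one 1 (Subgroup.mem_bot.1 (hbot ▸ C.xx_mem 1 (by norm_num) (by omega)))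

/-- **Tutte–Sims, Glauberman**: `k ≤ 4`. -/
theorem k_le_four : C.k ≤ 4 := by
  by_contra h
  push Not at h
  have h6 := C.k_ne_six
  have := C.upper (by omega)
  have := C.lower (by omega)
  omega

end Chain

end Cfsg.Agent.Lib.DihedralChain68
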