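import Cfsg.Agent.Lib.LAEven56.JComp.Shape
import Cfsg.Agent.Lib.Cores.Pi

/-!
# The quotient of a group by its odd core: a normal elementary 2-group with a group `S₃` on it

helper68.
-/

set_option autoImplicit false
set_option linter.style.haveILetI false

namespace Cfsg.Agent.Lib.DihedralChain68

/-- A group with a self-centralizing normal four-group moved differently by two elements is `S₄`. -/
theorem iso_perm_four {K : Type*} [Group K] [Finite K] (E : Subgroup K) [E.Normal] (hE4 : Nat.card E = 4)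
    (hE : Cfsg.IsElementaryAbelian 2 E) (hC : Subgroup.centralizer (E : Set K) ≤ E) {a b e : K}
    (ha2 : a * a ∈ E) (he : e ∈ E) (hae : Commute a e) (haC : a ∉ Subgroup.centralizer (E : Set K))
    (hbe : ¬ Commute b e) : Nonempty (K ≃* Equiv.Perm (Fin 4)) := by
  classical
  haveI := Fact.mk Nat.prime_two
  haveI := Fact.mk Nat.prime_three
  let α : K →* Equiv.Perm {v : E // v ≠ 1} :=
    { toFun := fun g => (MulAut.conjNormal g : MulAut E).toEquiv.subtypeEquiv (fun v => by simp)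
      map_one' := by ext v; simp
      map_mul' := fun g g' => by ext v; simp }
  have hker : α.ker = E := by
    refine le_antisymm (fun g hg => hC ?_) (fun g hg => ?_)
    · refine Subgroup.mem_centralizer_iff.2 fun v hv => ?_
      by_cases hv1 : v = 1
      · simp [hv1]
      have h := congrArg (fun σ : Equiv.Perm {v : E // v ≠ 1} =>
        (((σ ⟨⟨v, hv⟩, fun h => hv1 (congrArg Subtype.val h)⟩) : E) : K)) (MonoidHom.mem_ker.1 hg)
      simp [α] at h
      exact (mul_inv_eq_iff_eq_mul.1 h).symm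
    · rw [MonoidHom.mem_ker]
      ext v
      have := hE.1.is_comm.comm ⟨g, hg⟩ v.1
      have h' : g * (v.1 : K) = (v.1 : K) * g := congrArg Subtype.val this
      simp [α, h']
  have hP3 : Nat.card (Equiv.Perm {v : E // v ≠ 1}) = 6 := by
    have h3 : Nat.card {v : E // v ≠ 1} = 3 := by
      haveI := Fintype.ofFinite E
      rw [Nat.card_eq_fintype_card, Fintype.card_subtype_compl, Fintype.card_subtype_eq,
        ← Nat.card_eq_fintype_card, hE4]
    rw [Nat.card_perm, h3]; rfl
  have hd : Nat.card α.range ∣ 6 := hP3 ▸ Subgroup.card_subgroup_dvd_card _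
  have haK : a ∉ α.ker := fun h => haC (by
    rw [hker] at h
    exact Subgroup.mem_centralizer_iff.2 fun v hv => congrArg Subtype.val (hE.1.is_comm.comm ⟨v, hv⟩ ⟨a, h⟩))
  have ho : ∀ g : K, g * g ∈ α.ker → g ∉ α.ker → orderOf (⟨α g, g, rfl⟩ : α.range) = 2 := by
    intro g hg2 hg
    refine orderOf_eq_prime (Subtype.ext ?_) fun h => hg (congrArg Subtype.val h)
    show α g ^ 2 = 1
    rw [pow_two, ← map_mul]
    exact hg2
  have h2 : 2 ∣ Nat.card α.range := by
    rw [← ho a (hker.symm ▸ ha2) haK]; exact orderOf_dvd_natCard _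
  have hb : b ∉ α.ker := fun h => hbe (by
    rw [hker] at h
    exact congrArg Subtype.val (hE.1.is_comm.comm ⟨b, h⟩ ⟨e, he⟩))
  have hne2 : Nat.card α.range ≠ 2 := by
    intro h
    obtain ⟨z, -, hz⟩ := (Nat.card_eq_two_iff' (1 : α.range)).1 h
    have e1 := hz ⟨α a, a, rfl⟩ fun h => haK (congrArg Subtype.val h)
    have e2 := hz ⟨α b, b, rfl⟩ fun h => hb (congrArg Subtype.val h)
    have hab : α a = α b := congrArg Subtype.val (e1.trans e2.symm)
    have hmem : a⁻¹ * b ∈ Subgroup.centralizer (E : Set K) := by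
      have : a⁻¹ * b ∈ α.ker := by rw [MonoidHom.mem_ker, map_mul, map_inv, hab, inv_mul_cancel]
      rw [hker] at this
      exact Subgroup.mem_centralizer_iff.2 fun v hv =>
        congrArg Subtype.val (hE.1.is_comm.comm ⟨v, hv⟩ ⟨_, this⟩)
    apply hbe
    have h' : Commute (a⁻¹ * b) e := (Subgroup.mem_centralizer_iff.1 hmem e he).symm
    have := hae.mul_left h'
    rwa [mul_inv_cancel_left] at this
  have h6 : Nat.card α.range = 6 := by
    obtain ⟨j, hj⟩ := h2
    have hle := Nat.le_of_dvd (by norm_num) hd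
    interval_cases hr : Nat.card α.range <;> omega
  have hK : Nat.card K = 24 := by
    rw [← Subgroup.card_mul_index α.ker, Subgroup.index_ker, h6, hker, hE4]
  obtain ⟨φ⟩ := LAEven56.JComp.iso_perm_four (X := (⊤ : Subgroup K)) (W := E) le_top
    (by rw [Subgroup.normalizer_eq_top]) hE hE4 (by rw [Subgroup.card_top, hK]) (inf_le_right.trans hC)
  exact ⟨Subgroup.topEquiv.symm.trans φ⟩

/-- A central involution outside a subgroup of index two of a subgroup of odd index is moved by a character. -/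
theorem exists_hom_ne_one {X : Type*} [Group X] [Finite X] (J M : Subgroup X) (hJ : Odd J.index)
    (hM : M.relIndex J = 2) (z : X) (hzJ : z ∈ J) (hzM : z ∉ M) (hzc : ∀ g, Commute z g) (hz : z * z = 1) :
    ∃ χ : X →* Multiplicative (ZMod 2), χ z ≠ 1 := by
  classical
  haveI : (M.subgroupOf J).Normal := Subgroup.normal_of_index_eq_two hM
  haveI : Fact (Nat.Prime 2) := ⟨Nat.prime_two⟩
  have hq : Nat.card (J ⧸ M.subgroupOf J) = 2 := hM
  let e : J ⧸ M.subgroupOf J ≃* Multiplicative (ZMod 2) := mulEquivOfPrimeCardEq (p := 2) hq (by simp)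
  let φ : J →* Multiplicative (ZMod 2) := e.toMonoidHom.comp (QuotientGroup.mk' (M.subgroupOf J))
  have key : ∀ (n : ℕ) (g₀ : X), g₀⁻¹ * z ^ n * g₀ ∈ J → g₀⁻¹ * z ^ n * g₀ = z ^ n := fun n g₀ _ => by
    rw [mul_assoc, ((hzc g₀).pow_left n).eq, inv_mul_cancel_left]
  refine ⟨MonoidHom.transfer φ, ?_⟩
  rw [MonoidHom.transfer_eq_pow (ϕ := φ) z key]
  intro he
  have h2 : QuotientGroup.mk' (M.subgroupOf J) ⟨z ^ J.index, MonoidHom.transfer_eq_pow_aux z key⟩ = 1 :=
    e.map_eq_one_iff.1 he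
  rw [QuotientGroup.mk'_apply, QuotientGroup.eq_one_iff] at h2
  have h3 : z ^ J.index ∈ M := h2
  obtain ⟨j, hj⟩ := hJ
  rw [hj, pow_add, pow_mul, pow_two, hz, one_pow, one_mul, pow_one] at h3
  exact hzM h3

/-- The centraliser of an abelian normal 2-subgroup modulo it, when of odd index. -/
theorem exists_odd_complement {X : Type*} [Group X] [Finite X] (Q C : Subgroup X) [Q.Normal] [C.Normal]
    (hQC : Q ≤ C) (hcent : ∀ q ∈ Q, ∀ g ∈ C, Commute q g) (hQ2 : ∀ q ∈ Q, q * q = 1)
    (hodd : Odd (Q.relIndex C)) :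
    ∃ O : Subgroup X, O.Normal ∧ Odd (Nat.card O) ∧ O ≤ C ∧ C ≤ Q ⊔ O ∧ Nat.card O * Nat.card Q = Nat.card C := by
  classical
  set Q' := Q.subgroupOf C
  set m := Q.relIndex C with hm
  have hcom : IsMulCommutative Q' := ⟨⟨fun a b => Subtype.ext (Subtype.ext (hcent _ a.2 _ b.1.2).eq)⟩⟩
  letI : CommGroup Q' := { (inferInstance : Group Q') with mul_comm := hcom.is_comm.comm }
  have key : ∀ (n : ℕ) (g g₀ : C), g₀⁻¹ * g ^ n * g₀ ∈ Q' → g₀⁻¹ * g ^ n * g₀ = g ^ n := by
    intro n g g₀ h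
    have hg : (g : X) ^ n ∈ Q := by
      have h1 : ((g₀⁻¹ * g ^ n * g₀ : C) : X) ∈ Q := h
      have h2 := (inferInstance : Q.Normal).conj_mem _ h1 (g₀ : X)
      simpa [mul_assoc] using h2
    refine Subtype.ext ?_
    have := (hcent _ hg _ g₀.2).eq
    show (g₀ : X)⁻¹ * (g : X) ^ n * g₀ = (g : X) ^ n
    rw [mul_assoc, this, inv_mul_cancel_left]
  let θ : C →* Q' := MonoidHom.transfer (MonoidHom.id Q')
  have hθ : ∀ g : C, ((θ g : C) : X) = (g : X) ^ m := fun g => by
    show (((MonoidHom.transfer (MonoidHom.id Q') g) : C) : X) = _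
    rw [MonoidHom.transfer_eq_pow (ϕ := MonoidHom.id Q') g (fun n g₀ => key n g g₀)]
    rfl
  have hpow : ∀ q ∈ Q, q ^ m = q := fun q hq => by
    obtain ⟨j, hj⟩ := hodd
    rw [hj, pow_add, pow_mul, pow_two, hQ2 q hq, one_pow, one_mul, pow_one]
  have hsurj : Function.Surjective θ := fun q => ⟨q.1, Subtype.ext (Subtype.ext ((hθ q.1).trans (hpow _ q.2)))⟩
  refine ⟨θ.ker.map C.subtype, ⟨?_⟩, ?_, Subgroup.map_subtype_le _, ?_, ?_⟩
  · rintro _ ⟨g, hg, rfl⟩ w
    have hw : w * (g : X) * w⁻¹ ∈ C := (inferInstance : C.Normal).conj_mem _ g.2 w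
    refine ⟨⟨_, hw⟩, Subtype.ext (Subtype.ext ?_), rfl⟩
    have hg' : (g : X) ^ m = 1 := by
      rw [← hθ, show θ g = 1 from hg]; rfl
    rw [hθ]
    show (w * (g : X) * w⁻¹) ^ m = ((1 : Q') : C)
    rw [conj_pow, hg', mul_one, mul_inv_cancel]; rfl
  · rw [Subgroup.card_map_of_injective C.subtype_injective]
    have h1 := Subgroup.card_mul_index θ.ker
    rw [Subgroup.index_ker, MonoidHom.range_eq_top.2 hsurj, Subgroup.card_top] at h1
    have h2 := Subgroup.card_mul_index Q'
    rw [← h1, mul_comm] at h2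
    rw [← Nat.eq_of_mul_eq_mul_right Nat.card_pos h2]
    exact hodd
  · intro g hg
    set q := θ ⟨g, hg⟩
    have hq : ((q : C) : X) ∈ Q := q.2
    have hr : θ ((q : C)⁻¹ * ⟨g, hg⟩) = 1 := by
      refine Subtype.ext (Subtype.ext ?_)
      rw [map_mul, map_inv]
      have e : θ (q : C) = q := Subtype.ext (Subtype.ext (by rw [hθ, hpow _ hq]))
      rw [e, inv_mul_cancel]
    rw [show g = ((q : C) : X) * (((q : C)⁻¹ * ⟨g, hg⟩ : C) : X) by simp]
    exact mul_mem (Subgroup.mem_sup_left hq) (Subgroup.mem_sup_right ⟨_, hr, rfl⟩)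
  · rw [Subgroup.card_map_of_injective C.subtype_injective,
      ← Nat.card_congr (Subgroup.subgroupOfEquivOfLe hQC).toEquiv, ← Subgroup.card_mul_index θ.ker,
      Subgroup.index_ker, MonoidHom.range_eq_top.2 hsurj, Subgroup.card_top]

end Cfsg.Agent.Lib.DihedralChain68
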