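import Cfsg.Agent.Lib.DihedralChain68.Chain

/-!
# The chain of a group with an index two pushing-up configuration

helper68. `P = H ∩ H^y`, `u = h * y` moves the path.
-/

set_option autoImplicit false
set_option linter.style.haveILetI false

namespace Cfsg.Agent.Lib.DihedralChain68

open Cfsg.Agent.Lib.SimsThree (win mem_win win_mono win_glue conj_mem_win win_shift card_win_shift win_zero)

variable {G : Type*} [Group G]

/-- An element of `P C(P)` fixes every subgroup of `P` normalised by `P`. -/
theorem mem_normalizer_of_sup_centralizer {P X : Subgroup G} {z : G}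
    (hz : z ∈ P ⊔ Subgroup.centralizer (P : Set G)) (hXP : X ≤ P)
    (hPX : P ≤ Subgroup.normalizer (X : Set G)) : z ∈ Subgroup.normalizer (X : Set G) := by
  refine sup_le hPX (le_trans ?_ (Subgroup.centralizer_le_normalizer _)) hz
  exact Subgroup.centralizer_le hXP

theorem win_self_one (P : Subgroup G) (u : G) : win P u 1 1 = P.map (MulAut.conj u).toMonoidHom := by
  have := win_shift P u 0 0 1
  rwa [zero_add, win_zero, zpow_one] at this

theorem win_self_neg (P : Subgroup G) (u : G) : win P u (-1) (-1) = P.map (MulAut.conj u⁻¹).toMonoidHom := by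
  have := win_shift P u 0 0 (-1)
  rwa [zero_add, win_zero, zpow_neg_one] at this

theorem map_conj_mul (A : Subgroup G) (a b : G) :
    A.map (MulAut.conj (a * b)).toMonoidHom =
      (A.map (MulAut.conj b).toMonoidHom).map (MulAut.conj a).toMonoidHom := by
  rw [Subgroup.map_map, map_mul]; rfl

theorem map_conj_eq_self {A : Subgroup G} {g : G} (hg : g ∈ Subgroup.normalizer (A : Set G)) :
    A.map (MulAut.conj g).toMonoidHom = A :=
  Subgroup.mem_normalizer_iff_map_conj_eq.1 hg

/-- The configuration gives a chain. -/
theorem exists_chain [Finite G] {H P : Subgroup G} {y h : G} (hh : h ∈ H)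
    (hH : P ⊔ P.map (MulAut.conj h).toMonoidHom = H)
    (hidx : (P ⊓ P.map (MulAut.conj h).toMonoidHom).relIndex P = 2)
    (hyN : y ∈ Subgroup.normalizer (P : Set G)) (hy2 : y * y ∈ P ⊔ Subgroup.centralizer (P : Set G))
    (hno : ∀ X : Subgroup G, X ≤ P → H ≤ Subgroup.normalizer (X : Set G) →
      y ∈ Subgroup.normalizer (X : Set G) → X = ⊥)
    (hnot : ¬ IsPGroup 2 H) :
    ∃ C : Chain G, C.P = P ∧ C.u = h * y ∧ C.pt 1 = H := by
  haveI := Fact.mk Nat.prime_two
  have hPH : P ≤ H := hH ▸ le_sup_left
  set u := h * y with hu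
  have hP1 : win P u 1 1 = P.map (MulAut.conj h).toMonoidHom := by
    rw [win_self_one, hu, map_conj_mul, map_conj_eq_self hyN]
  -- no common normal subgroup of the two point stabilisers
  have hX0 : ∀ X : Subgroup G, X ≤ P → win P u (-1) (-1) ⊔ P ≤ Subgroup.normalizer (X : Set G) →
      P ⊔ win P u 1 1 ≤ Subgroup.normalizer (X : Set G) → X = ⊥ := by
    intro X hXP hl hr
    rw [hP1, hH] at hr
    have hconj : (win P u (-1) (-1) ⊔ P).map (MulAut.conj y).toMonoidHom = H := by
      have e : (P ⊔ P.map (MulAut.conj h).toMonoidHom).map (MulAut.conj h⁻¹).toMonoidHom = H := by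
        rw [hH]; exact map_conj_eq_self (Subgroup.le_normalizer (inv_mem hh))
      rw [Subgroup.map_sup, ← map_conj_mul, inv_mul_cancel, map_one,
        show (1 : MulAut G).toMonoidHom = MonoidHom.id G from rfl, Subgroup.map_id] at e
      rw [Subgroup.map_sup, map_conj_eq_self hyN, win_self_neg, ← map_conj_mul,
        show y * u⁻¹ = h⁻¹ by rw [hu]; group]
      exact e
    set Y := X.map (MulAut.conj y).toMonoidHom with hY
    have hYP : Y ≤ P := (Subgroup.map_mono hXP).trans (map_conj_eq_self hyN).le
    have hYH : H ≤ Subgroup.normalizer (Y : Set G) :=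
      hconj.ge.trans ((Subgroup.map_mono hl).trans (Subgroup.le_normalizer_map _))
    have hYy : Y.map (MulAut.conj y).toMonoidHom = X := by
      rw [hY, ← map_conj_mul, map_conj_eq_self (mem_normalizer_of_sup_centralizer hy2 hXP (hPH.trans hr))]
    have h' : X ⊔ Y = ⊥ := by
      refine hno _ (sup_le hXP hYP) (fun g hg => ?_) ?_
      · exact Subgroup.mem_normalizer_iff_map_conj_eq.2
          ((Subgroup.map_sup _ _ _).trans (congrArg₂ _ (map_conj_eq_self (hr hg)) (map_conj_eq_self (hYH hg))))
      · exact Subgroup.mem_normalizer_iff_map_conj_eq.2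
          ((Subgroup.map_sup _ _ _).trans ((congrArg₂ _ hY.symm hYy).trans (sup_comm _ _)))
    exact le_bot_iff.1 (le_sup_left.trans h'.le)
  -- the decreasing windows
  set f := fun m : ℕ => win P u 0 (m : ℤ) with hf
  have hf0 : f 0 = P := by simp only [hf, Nat.cast_zero]; exact win_zero P u
  have hanti : ∀ m, f (m + 1) ≤ f m := fun m => win_mono le_rfl (by push_cast; omega)
  have htwo : (win P u 0 1).relIndex (win P u 0 0) = 2 := by
    have e : win P u 0 1 = P ⊓ P.map (MulAut.conj h).toMonoidHom := by
      rw [← hP1]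
      refine le_antisymm (le_inf ((win_mono le_rfl (by omega)).trans (win_zero P u).le)
        (win_mono (by omega) le_rfl)) fun g hg => ?_
      exact win_glue ((win_zero P u).ge hg.1) hg.2 fun t h1 h2 => by omega
    rw [e, win_zero, hidx]
  have hstep : ∀ lo hi : ℤ, lo ≤ hi → (win P u lo (hi + 1)).relIndex (win P u lo hi) ∣ 2 := by
    intro lo hi hle
    have hh' : (win P u hi (hi + 1)).relIndex (win P u hi hi) = 2 := by
      have e := Subgroup.relIndex_map_map_of_injective (win P u 0 1) (win P u 0 0)
        (f := (MulAut.conj (u ^ hi)).toMonoidHom) (MulAut.conj (u ^ hi)).injective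
      rw [← win_shift, ← win_shift, zero_add, htwo, add_comm (1 : ℤ)] at e
      exact e
    have hle' : win P u lo hi ≤ win P u hi hi := win_mono hle le_rfl
    have e : win P u lo (hi + 1) = win P u hi (hi + 1) ⊓ win P u lo hi := by
      refine le_antisymm (le_inf (win_mono hle le_rfl) (win_mono le_rfl (by omega))) ?_
      intro x hx
      exact win_glue hx.1 hx.2 fun t h1 h2 => by omega
    rw [e, Subgroup.inf_relIndex_right, ← hh', ← Subgroup.relIndex_subgroupOf hle']
    haveI : ((win P u hi (hi + 1)).subgroupOf (win P u hi hi)).Normal := Subgroup.normal_of_index_eq_two hh'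
    exact Subgroup.relIndex_dvd_index_of_normal _ _
  have hex : ∃ m, f (m + 1) = f m := by
    by_contra hcon
    push Not at hcon
    have hlt : ∀ m, Nat.card (f m) + m ≤ Nat.card (f 0) := by
      intro m
      induction m with
      | zero => simp
      | succ m ih =>
        have : Nat.card (f (m + 1)) < Nat.card (f m) := by
          by_contra h
          exact hcon m (Subgroup.eq_of_le_of_card_ge (hanti m) (not_lt.1 h))
        omega
    have := hlt (Nat.card (f 0) + 1)
    omega
  classical
  set m := Nat.find hex with hm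
  have hmeq : f (m + 1) = f m := Nat.find_spec hex
  have hmin : ∀ j, j < m → f (j + 1) ≠ f j := fun j hj => Nat.find_min hex hj
  have hm1 : 1 ≤ m := by
    by_contra h
    rw [show m = 0 by omega] at hmeq
    simp only [hf, zero_add, Nat.cast_one, Nat.cast_zero] at hmeq
    rw [hmeq, Subgroup.relIndex_self] at htwo
    norm_num at htwo
  have hdouble : ∀ j : ℕ, j < m → Nat.card (f j) = Nat.card (f (j + 1)) * 2 := by
    intro j hjm
    have hd' : (f (j + 1)).relIndex (f j) ∣ 2 := by
      simp only [hf, Nat.cast_add, Nat.cast_one]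
      exact hstep 0 j (by omega)
    rcases (Nat.dvd_prime Nat.prime_two).1 hd' with h | h
    · exact absurd (le_antisymm (hanti j) (Subgroup.relIndex_eq_one.1 h)) (hmin j hjm)
    · have := Subgroup.relIndex_mul_relIndex (⊥ : Subgroup G) (f (j + 1)) (f j) bot_le (hanti j)
      rw [Subgroup.relIndex_bot_left, Subgroup.relIndex_bot_left, h] at this
      exact this.symm
  set N := f m with hN
  have hshift1 : N.map (MulAut.conj u).toMonoidHom = N := by
    have e : N.map (MulAut.conj u).toMonoidHom = win P u 1 ((m : ℤ) + 1) := by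
      have := (win_shift P u 0 (m : ℤ) 1).symm
      rwa [zero_add, zpow_one] at this
    rw [e]
    refine (Subgroup.eq_of_le_of_card_ge (show N ≤ win P u 1 ((m : ℤ) + 1) from ?_) ?_).symm
    · exact hmeq.ge.trans (win_mono (by omega) (by push_cast; omega))
    · rw [← e, Subgroup.card_map_of_injective (f := (MulAut.conj u).toMonoidHom) (MulAut.conj u).injective]
  have huN : u ∈ Subgroup.normalizer (N : Set G) := Subgroup.mem_normalizer_iff_map_conj_eq.2 hshift1
  have hmove : ∀ s lo hi : ℤ, win P u lo hi ≤ Subgroup.normalizer (N : Set G) →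
      win P u (lo + s) (hi + s) ≤ Subgroup.normalizer (N : Set G) := by
    intro s lo hi hle
    rw [win_shift]
    refine (Subgroup.map_mono hle).trans ((Subgroup.le_normalizer_map _).trans ?_)
    rw [map_conj_eq_self (Subgroup.zpow_mem _ huN s)]
  -- all windows normalise the stable one
  have hdown : ∀ d j : ℕ, j + 1 + d = m → f j ≤ Subgroup.normalizer (N : Set G) := by
    intro d
    induction d with
    | zero =>
      intro j hj
      have hc := hdouble j (by omega)
      have hsub : f (j + 1) ≤ f j := hanti j
      have hidx2 : ((f (j + 1)).subgroupOf (f j)).index = 2 := by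
        have h' := Subgroup.card_mul_index ((f (j + 1)).subgroupOf (f j))
        rw [Nat.card_congr (Subgroup.subgroupOfEquivOfLe hsub).toEquiv, hc] at h'
        exact Nat.eq_of_mul_eq_mul_left Nat.card_pos h'
      have := (Subgroup.normal_subgroupOf_iff_le_normalizer hsub).1 (Subgroup.normal_of_index_eq_two hidx2)
      rwa [show j + 1 = m by omega] at this
    | succ d ih =>
      intro j hj
      have hjm : j + 1 < m := by omega
      have h1 := ih (j + 1) (by omega)
      set A := f (j + 1) with hA
      set B := win P u (-1) (j : ℤ) with hB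
      have hAj : A ≤ f j := hanti j
      have hBj : B ≤ f j := win_mono (by omega) le_rfl
      have h2 : B ≤ Subgroup.normalizer (N : Set G) := by
        have := hmove (-1) 0 ((j + 1 : ℕ) : ℤ) h1
        rwa [zero_add, show ((j + 1 : ℕ) : ℤ) + -1 = (j : ℤ) by push_cast; ring] at this
      have hne : ¬ B ≤ A := by
        intro hle
        refine hmin (j + 1) hjm (le_antisymm (hanti _) ?_)
        have hBc : Nat.card B = Nat.card A := by
          have := card_win_shift P u 0 ((j + 1 : ℕ) : ℤ) (-1)
          rwa [zero_add, show ((j + 1 : ℕ) : ℤ) + -1 = (j : ℤ) by push_cast; ring] at this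
        have hAB : A = B := (Subgroup.eq_of_le_of_card_ge hle hBc.ge).symm
        intro g hg
        have hgA : g ∈ win P u 0 ((j + 1 : ℕ) : ℤ) := hg
        have hg' : u ^ (1 : ℤ) * g * (u ^ (1 : ℤ))⁻¹ ∈ win P u 0 ((j + 1 : ℕ) : ℤ) := by
          have hgB : g ∈ win P u (-1) (j : ℤ) := hAB.le hgA
          have := (conj_mem_win (1 : ℤ)).2 hgB
          rwa [neg_add_cancel, show (j : ℤ) + 1 = ((j + 1 : ℕ) : ℤ) by push_cast; ring] at this
        -- `A` is invariant under the shift
        have hAu : A.map (MulAut.conj u).toMonoidHom = A := by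
          have := (win_shift P u (-1) (j : ℤ) 1).symm
          rw [zpow_one, neg_add_cancel, show (j : ℤ) + 1 = ((j + 1 : ℕ) : ℤ) by push_cast; ring] at this
          conv_lhs => rw [hAB]
          exact this
        have hgA1 : g ∈ win P u 1 ((j + 1 : ℕ) + 1 : ℤ) := by
          have := (win_shift P u 0 ((j + 1 : ℕ) : ℤ) 1)
          rw [zero_add, zpow_one] at this
          rw [this]
          exact hAu.ge hgA
        exact win_glue hgA hgA1 fun t a b => by push_cast at b ⊢; omega
      have hsup : f j = A ⊔ B := by
        refine (Subgroup.eq_of_le_of_card_ge (sup_le hAj hBj) ?_).symm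
        obtain ⟨e, he⟩ := Subgroup.card_dvd_of_le (le_sup_left : A ≤ A ⊔ B)
        have he1 : e ≠ 1 := fun e1 => hne (le_sup_right.trans
          (Subgroup.eq_of_le_of_card_ge le_sup_left (by rw [he, e1, mul_one])).ge)
        have he0 : e ≠ 0 := fun e0 => Nat.card_pos.ne' (he.trans (by rw [e0, mul_zero]))
        rw [hdouble j (by omega), he]
        exact Nat.mul_le_mul_left _ (by omega)
      rw [hsup]
      exact sup_le h1 h2
  have hPN : P ≤ Subgroup.normalizer (N : Set G) := hf0 ▸ hdown (m - 1) 0 (by omega)
  have hN0 : N = ⊥ := by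
    refine hX0 N ?_ ?_ ?_
    · exact (win_mono le_rfl (Nat.cast_nonneg m)).trans (win_zero P u).le
    · refine sup_le ?_ hPN
      have := hmove (-1) 0 0 ((win_zero P u).le.trans hPN)
      simpa using this
    · refine sup_le hPN ?_
      have := hmove 1 0 0 ((win_zero P u).le.trans hPN)
      simpa using this
  have hcount : ∀ j : ℕ, j ≤ m → Nat.card (f j) = 2 ^ (m - j) := by
    intro j hj
    obtain ⟨d, hd⟩ : ∃ d, j + d = m := ⟨m - j, by omega⟩
    induction d generalizing j with
    | zero => rw [show j = m by omega, ← hN, hN0, Subgroup.card_bot, Nat.sub_self, pow_zero]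
    | succ d ih =>
      rw [hdouble j (by omega), ih (j + 1) (by omega) (by omega), ← pow_succ,
        show m - (j + 1) + 1 = m - j by omega]
  obtain ⟨⟨x, hx⟩, hx1⟩ : ∃ x : (f (m - 1) : Subgroup G), x ≠ 1 := by
    have h2 : Nat.card (f (m - 1)) = 2 := by
      rw [hcount _ (by omega), show m - (m - 1) = 1 by omega, pow_one]
    obtain ⟨z, hz, -⟩ := (Nat.card_eq_two_iff' (1 : f (m - 1))).1 h2
    exact ⟨z, hz⟩
  refine ⟨{ P := P, u := u, k := m, x := x, k_pos := hm1,
            x_mem := ?_, x_ne := fun e => hx1 (Subtype.ext e),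
            card_P := by rw [← hf0, hcount 0 (Nat.zero_le _), Nat.sub_zero],
            win_top := hN0, step := hstep, nocommon := hX0,
            not_two := ?_ }, rfl, rfl, ?_⟩
  · have hx' : x ∈ win P u 0 ((m - 1 : ℕ) : ℤ) := hx
    rwa [show ((m - 1 : ℕ) : ℤ) = (m : ℤ) - 1 by omega] at hx'
  · rw [hP1, hH]; exact hnot
  · simp only [Chain.pt, Chain.W, sub_self, add_sub_cancel_right]
    rw [win_zero, hP1, hH]

end Cfsg.Agent.Lib.DihedralChain68
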